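import Cfsg.Agent.X7.Code
import Cfsg.Agent.U6R.Setting

/-! The case `Q ∩ P = ⟨z, t⟩` with `Q` of plus type does not occur. -/

set_option autoImplicit false

namespace Cfsg.Agent.X7

open Subgroup Cfsg.Agent.TT Cfsg.Agent.LES Cfsg.Agent.XSC Cfsg.Agent.XSC.WC Cfsg.Agent.XW
  Cfsg.Agent.He5 Cfsg.Agent.Comp

variable {G : Type*} [Group G] [Finite G] {Q F : Subgroup G} {z s d : G} {ψ : ℕ → G}

omit [Finite G] in
theorem exists_not_mem_list {A : Subgroup G} (l : List G) (h : l.length < Nat.card A) :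
    ∃ x ∈ A, x ∉ l := by
  classical
  by_contra n
  push Not at n
  have := Nat.card_le_card_of_injective (fun x : A => (⟨x, List.mem_toFinset.2 (n x x.2)⟩ : l.toFinset))
    fun x y e => Subtype.ext (Subtype.mk.inj e)
  rw [Nat.card_eq_fintype_card (α := l.toFinset), Fintype.card_coe] at this
  have := List.toFinset_card_le l
  omega

omit [Finite G] in
theorem qc_conj (h : QC Q z ψ) (lx : XS Q z) {p : G} (hp : p ∈ Q) : QC Q z fun k => p * ψ k * p⁻¹ :=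
  ⟨h.hm_conj p, fun hk hl e => h.inj hk hl (by simpa using e),
    by simp only [h.z_eq]; exact conj_eq_of_comm (lx.z_comm p hp), fun {g} => ⟨fun hg => by
      obtain ⟨k, hk, e⟩ := h.mem.1 (mul_mem (mul_mem (inv_mem hp) hg) hp)
      exact ⟨k, hk, by rw [e]; group⟩, fun ⟨k, hk, e⟩ =>
      e ▸ mul_mem (mul_mem hp (qc_mem h hk)) (inv_mem hp)⟩⟩

/-- an elementary abelian subgroup of order at least 16 -/
structure Big (Q : Subgroup G) (z : G) (F : Subgroup G) : Prop where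
  le : F ≤ Q
  z_mem : z ∈ F
  sq : ∀ x ∈ F, x * x = 1
  card : 16 ≤ Nat.card F

omit [Finite G] in
theorem comm_of_sq (h : ∀ x ∈ F, x * x = 1) {a b : G} (ha : a ∈ F) (hb : b ∈ F) : a * b = b * a := by
  have k : ∀ x ∈ F, x⁻¹ = x := fun x hx => inv_eq_of_mul_eq_one_right (h x hx)
  rw [← k _ (mul_mem ha hb), mul_inv_rev, k a ha, k b hb]

theorem Big.frame (h : Big Q z F) (lx : XS Q z) (hc : Nat.card Q = 128) (hs : s ∈ F) (hd : d ∈ Q)
    (d2 : d * d = 1) (n : s * d ≠ d * s) : ∃ ψ, QC Q z ψ ∧ ψ 1 = s ∧ Eqv z (ψ 8) d ∧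
      ∀ k < 128, ψ k ∈ F ↔ k % 64 < 8 := by
  obtain ⟨ψ, q⟩ := qc_of_E16 lx hc h.le h.sq (by have := h.card; omega)
  have c1 := card_le_two_mul_of_mul_mem (A := F) (B := F ⊓ centralizer {d}) inf_le_left
    fun x hx y hy n1 n2 => ⟨mul_mem hx hy, mem_c.2 (lx.mul_comm_of_not_comm hd (h.le hx) (h.le hy)
      (fun e => n1 ⟨hx, mem_c.2 e⟩) fun e => n2 ⟨hy, mem_c.2 e⟩)⟩
  have := h.card
  obtain ⟨b, hb, nb⟩ := exists_not_mem_list (A := F ⊓ centralizer {d}) [1, z] (show 2 < _ by omega)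
  obtain ⟨c, hc, nc⟩ := exists_not_mem_list (A := F ⊓ centralizer {d}) [1, z, b, b * z]
    (show 4 < _ by omega)
  simp only [List.mem_cons, List.not_mem_nil, or_false, not_or] at nb nc
  have cm := fun {a b} => comm_of_sq h.sq (a := a) (b := b)
  obtain ⟨φ, q, e1, e2, e3, e4⟩ := adapt4 lx q (h.le hs) (h.le hb.1) (h.le hc.1) hd (h.sq s hs)
    (h.sq b hb.1) (h.sq c hc.1) d2 (cm hs hb.1) (cm hs hc.1) (cm hb.1 hc.1) n (mem_c.1 hb.2).symm
    (mem_c.1 hc.2).symm (by simp [eqv_one_iff, nb]) (by simp [eqv_one_iff, nc])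
    (fun e => e.elim nc.2.2.1 nc.2.2.2)
  have key : ∀ φ, QC Q z φ → φ 1 ∈ F → φ 2 ∈ F → φ 4 ∈ F → ∀ k < 128, φ k ∈ F ↔ k % 64 < 8 := by
    intro φ q m1 m2 m4 k hk
    refine ⟨fun m => ?_, fun e => ?_⟩
    · have : ∀ k < 128, mq k 1 = mq 1 k → mq k 2 = mq 2 k → mq k 4 = mq 4 k → k % 64 < 8 := by
        decide +kernel
      exact this k hk ((qc_comm q hk (by decide)).1 (cm m m1)) ((qc_comm q hk (by decide)).1 (cm m m2))
        ((qc_comm q hk (by decide)).1 (cm m m4))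
    · have : ∀ k < 128, k % 64 < 8 → k.testBit 3 = false ∧ k.testBit 4 = false ∧ k.testBit 5 = false := by
        decide +kernel
      have p : ∀ u ∈ F, ∀ b, pw u b ∈ F := fun u hu b => by cases b <;> simp [pw, hu]
      rw [q.mul.eq_fq hk, fq, (this k hk e).1, (this k hk e).2.1, (this k hk e).2.2, q.z_eq]
      simp only [pw.eq_1 _ false, Bool.false_eq_true, if_false, one_mul]
      exact mul_mem (p _ m1 _) (mul_mem (p _ m2 _) (mul_mem (p _ m4 _) (p _ h.z_mem _)))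
  have m1 := e1.mem h.z_mem hs
  have m2 := e2.mem h.z_mem hb.1
  have m4 := e3.mem h.z_mem hc.1
  rcases e1 with e | e
  · exact ⟨φ, q, e, e4, key φ q m1 m2 m4⟩
  · have cj : ∀ {x}, x ∈ F → d * x * d⁻¹ ∈ F := lx.conj_mem h.le h.z_mem hd
    refine ⟨_, qc_conj q lx hd, ?_, (eqv_conj lx hd (qc_mem q (by decide))).trans q.zz e4,
      key _ (qc_conj q lx hd) (cj m1) (cj m2) (cj m4)⟩
    rw [e, ← conj_mul, lx.conj_of_ne hd (h.le hs) n.symm, conj_eq_of_comm (lx.z_comm d hd), lx.mul_z_z]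

theorem Big.frame' (h : Big Q z F) (lx : XS Q z) (hc : Nat.card Q = 128) (hs : s ∈ F) (s1 : s ≠ 1)
    (sz : s ≠ z) : ∃ ψ, QC Q z ψ ∧ ψ 1 = s ∧ ∀ k < 128, ψ k ∈ F ↔ k % 64 < 8 := by
  obtain ⟨y, hy, n⟩ := lx.exists_not_comm (h.le hs) s1 sz
  rcases lx.sq hy with e | e
  · obtain ⟨ψ, a, b, -, c⟩ := h.frame lx hc hs hy e n
    exact ⟨ψ, a, b, c⟩
  · obtain ⟨ψ, a, b, -, c⟩ := h.frame lx hc hs (mul_mem hy (h.le hs)) (by
      rw [mul_assoc, ← mul_assoc s, lx.comm_of_ne (h.le hs) hy n, mul_assoc _ z,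
        ← lx.z_comm s (h.le hs), ← mul_assoc, ← mul_assoc, ← mul_assoc, e, mul_assoc z, h.sq s hs,
        mul_one, lx.z_sq]) (by rwa [← mul_assoc, Ne, mul_left_inj])
    exact ⟨ψ, a, b, c⟩

/-- all involutions of `Q` are conjugate to `z`, with small intersections -/
def E0 (z : G) : Prop := XH z ∧ ∀ s ∈ O2C z, s * s = 1 → s ≠ 1 → s ≠ z →
  IsConj z s ∧ ∀ x ∈ O2C z, x ∈ O2C s → InV z s x

/-- the isometries fixing `1, 2, 4` -/
def tb8 : List ℕ := [34630287489, 36844880001, 35705077889, 37919670401, 34647588993, 36862181505,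
  35722379393, 37936971905]

theorem pass8 : allO (fun M => or' (not' (Nat.beq (Nat.land M 262143) 16513))
    (anyLT 8 fun j => Nat.beq M (BN.nth 0 tb8 j))) = true := by decide +kernel

namespace E0

variable (h : E0 z)
include h

omit [Finite G] in
theorem of_isConj (hd : IsConj z d) : E0 d := by
  refine ⟨h.1.of_isConj hd, ?_⟩
  obtain ⟨g, rfl⟩ := isConj_iff.1 hd
  intro s hs s2 s1 sz
  obtain ⟨u, rfl⟩ : ∃ u, s = g * u * g⁻¹ := ⟨g⁻¹ * s * g, by group⟩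
  have k : ∀ {x y : G}, g * x * g⁻¹ ∈ O2C (g * y * g⁻¹) → x ∈ O2C y := fun m => by
    rw [mem_O2C_conj] at m; simpa [mul_assoc] using m
  obtain ⟨a, b⟩ := h.2 u (k hs) (by simpa using s2) (by simpa using s1) (by simpa using sz)
  refine ⟨(hd.symm.trans a).trans (isConj_cj g u), fun x h1 h2 => ?_⟩
  obtain ⟨v, rfl⟩ : ∃ u, x = g * u * g⁻¹ := ⟨g⁻¹ * x * g, by group⟩
  simpa only [InV, conj_mul, mul_left_inj, mul_right_inj, conj_eq_one_iff] using b v (k h1) (k h2)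

omit [Finite G] in
theorem fp (hs : s ∈ O2C z) (s2 : s * s = 1) (s1 : s ≠ 1) (sz : s ≠ z) : FP z s :=
  ⟨h.1, (h.2 s hs s2 s1 sz).1, hs, sz⟩

theorem rho {a : G} (k : FP z s) (ha : a ∈ O2C z) (a2 : a * a = 1) (c : a * s = s * a)
    (n : ¬ InV z s a) : ∃ ρ ∈ O2C s, ρ * z = z * ρ ∧ ρ * ρ = 1 ∧ ρ ∉ O2C z ∧
      ∀ b ∈ O2C z, b * s = s * b → a * b = b * a → ρ * b = b * ρ := by
  obtain ⟨R, T⟩ := exists_tri3 k.pair (h.2 s k.mem k.tt k.t_ne k.ne).2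
  obtain ⟨ρ, l⟩ := T.exists_lk_left ha c
  refine ⟨ρ, l.uP, l.uz, (T.sq_iff l).2 a2, fun m => n (T.QR a ha
    ((mul_mem_cancel_left (T.inV_R (T.QP ρ m l.uP))).1 l.mem)), fun b hb h1 h2 => dd_eq_one.1 ?_⟩
  exact ((T.K_eq l hb h1).resolve_right fun e => e.1 h2).2

variable (q : QC (O2C z) z ψ) (hF : ∀ k < 128, ψ k ∈ F ↔ k % 64 < 8) (hB : Big (O2C z) z F)
include q hF hB

theorem mem_F {x : G} (hx : x ∈ O2C z) (hc : x ∈ centralizer (F : Set G)) : x ∈ F := by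
  obtain ⟨k, hk, rfl⟩ := q.mem.1 hx
  have : ∀ k < 128, mq 1 k = mq k 1 → mq 2 k = mq k 2 → mq 4 k = mq k 4 → k % 64 < 8 := by
    decide +kernel
  have m := fun l hl e => (qc_comm q hl hk).1 (hc _ ((hF l hl).2 e))
  exact (hF k hk).2 (this k hk (m 1 (by decide) (by decide)) (m 2 (by decide) (by decide))
    (m 4 (by decide) (by decide)))

theorem lin8 {c : G} (hc : c ∈ centralizer (F : Set G)) : ∃ j < 8, Lin z ψ c (BN.nth 0 tb8 j) := by
  obtain ⟨M, a1, a2, a3⟩ := q.exists_lin h.1.lx pass8 (hc z hB.z_mem).symm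
  have k : ∀ i < 3, col M i = 2 ^ i := fun i hi => col_eq_of q a2 (by omega)
    (by interval_cases i <;> decide) (Or.inl (conj_eq_of_comm (hc _ ((hF _ (two_pow_lt (by omega))).2
      (by interval_cases i <;> decide))).symm))
  have e : Nat.land M 262143 = 16513 := by
    change M &&& (2 ^ 18 - 1) = _
    have k0 := k 0 (by decide)
    have k1 := k 1 (by decide)
    have k2 := k 2 (by decide)
    rw [col_eq] at k0 k1 k2
    rw [Nat.and_two_pow_sub_one_eq_mod]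
    omega
  simp only [or'_eq_true, not'_eq_true, beq_iff, e, not_true, false_or, anyLT_iff] at a3
  obtain ⟨j, hj, rfl⟩ := a3
  exact ⟨j, hj, a2⟩

theorem rhoj {j : ℕ} (hj : j < 8) (j0 : j ≠ 0) : ∃ ρ ∈ O2C (ψ ([0, 2, 1, 3, 1, 2, 1, 3].getD j 0)),
    ρ ∈ centralizer (F : Set G) ∧ ρ * ρ = 1 ∧ ρ ∉ O2C z ∧ Lin z ψ ρ (BN.nth 0 tb8 j) ∧
      ρ * ψ (8 * j) = ψ (8 * j) * ρ := by
  have t : ∀ j < 8, j ≠ 0 → ∃ a < 8, a ≠ 0 ∧ a ≠ [0, 2, 1, 3, 1, 2, 1, 3].getD j 0 ∧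
      mq a (8 * j) = mq (8 * j) a := by decide +kernel
  have t' : ∀ j < 8, j ≠ 0 → 0 < [0, 2, 1, 3, 1, 2, 1, 3].getD j 0 ∧
      [0, 2, 1, 3, 1, 2, 1, 3].getD j 0 < 8 ∧ mq (8 * j) ([0, 2, 1, 3, 1, 2, 1, 3].getD j 0) =
        mq ([0, 2, 1, 3, 1, 2, 1, 3].getD j 0) (8 * j) := by decide +kernel
  have t3 : ∀ j < 8, j ≠ 0 → ∀ i < 8, lin (BN.nth 0 tb8 i) (8 * j) = 8 * j →
      BN.nth 0 tb8 i = i6 ∨ i = j := by decide +kernel
  obtain ⟨a, a8, a0, as, t1⟩ := t j hj j0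
  obtain ⟨s0, s8, t2⟩ := t' j hj j0
  generalize [0, 2, 1, 3, 1, 2, 1, 3].getD j 0 = s at *
  have ms := (hF s (by omega)).2 (by omega)
  have ma := (hF a (by omega)).2 (by omega)
  have ne : ∀ {k l}, k < 64 → l < 64 → k ≠ l → ¬ Eqv z (ψ k) (ψ l) := fun hk hl n e =>
    n (q.eq_of_eqv hk hl e)
  have s1 := eqv_one_iff.not.1 (q.mul.zero ▸ ne (k := s) (l := 0) (by omega) (by omega) (by omega))
  have k := h.fp (hB.le ms) (hB.sq _ ms) (fun e => s1 (Or.inl e)) fun e => s1 (Or.inr e)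
  obtain ⟨ρ, r1, r2, r3, r4, r5⟩ := h.rho k (hB.le ma) (hB.sq _ ma) (comm_of_sq hB.sq ma ms) fun e =>
    (k.inV_eqv e).elim (q.mul.zero ▸ ne (by omega) (by omega) a0) (ne (by omega) (by omega) as)
  have rC : ρ ∈ centralizer (F : Set G) := fun x hx =>
    (r5 x (hB.le hx) (comm_of_sq hB.sq hx ms) (comm_of_sq hB.sq ma hx)).symm
  have r6 := r5 _ (qc_mem q (show 8 * j < 128 by omega)) ((qc_comm q (by omega) (by omega)).2 t2)
    ((qc_comm q (by omega) (by omega)).2 t1)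
  obtain ⟨i, hi, l⟩ := h.lin8 q hF hB rC
  rcases t3 j hj j0 i hi (lin_eq q l (by omega) (by omega) (Or.inl (conj_eq_of_comm r6))) with e | rfl
  · exact absurd (by simpa using q.lin_mem h.1.lx (e ▸ l) (q.lin_of_mem (one_mem _))) r4
  · exact ⟨ρ, r1, rC, r3, r4, l, r6⟩

theorem cen_sq' {c : G} (hc : c ∈ centralizer (F : Set G)) : c * c = 1 := by
  obtain ⟨j, hj, l⟩ := h.lin8 q hF hB hc
  by_cases j0 : j = 0
  · subst j0
    exact hB.sq c (h.mem_F q hF hB (by simpa using q.lin_mem h.1.lx l (q.lin_of_mem (one_mem _))) hc)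
  · obtain ⟨ρ, -, r2, r3, -, r5, -⟩ := h.rhoj q hF hB hj j0
    have m := h.mem_F q hF hB (q.lin_mem h.1.lx l r5) (mul_mem (inv_mem r2) hc)
    calc c * c = ρ * ((ρ⁻¹ * c) * ρ) * (ρ⁻¹ * c) := by group
      _ = 1 := by rw [r2 _ m, ← mul_assoc ρ ρ, r3, one_mul, hB.sq _ m]

theorem cen_card' : Nat.card (centralizer (F : Set G)) ≤ 128 := by
  have k1 := h.1.xs.card_mul_card_centralizer hB.le hB.z_mem
  have k2 := card_le_of_le (show F ≤ O2C z ⊓ centralizer (F : Set G) from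
    fun x hx => ⟨hB.le hx, fun y hy => comm_of_sq hB.sq hy hx⟩)
  choose! f hf using fun c hc => h.lin8 q hF hB (c := c) hc
  have k3 := U6R.card_le_of_fun (X := centralizer (F : Set G)) (K := F) f (Finset.range 8)
    (fun x hx => Finset.mem_range.2 (hf x hx).1) fun x hx y hy e => h.mem_F q hF hB
      (q.lin_mem h.1.lx (hf y hy).2 (e ▸ (hf x hx).2)) (mul_mem (inv_mem hx) hy)
  rw [h.1.card] at k1
  rw [Finset.card_range] at k3
  nlinarith

theorem big' : Big (O2C (ψ 1)) (ψ 1) (O2C (ψ 1) ⊓ centralizer (F : Set G)) := by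
  have m1 := (hF 1 (by decide)).2 (by decide)
  have s1 := eqv_one_iff.not.1 fun e : Eqv z (ψ 1) 1 =>
    absurd (q.eq_of_eqv (a := 1) (b := 0) (by decide) (by decide) (q.mul.zero ▸ e)) (by decide)
  have k := h.fp (hB.le m1) (hB.sq _ m1) (fun e => s1 (Or.inl e)) fun e => s1 (Or.inr e)
  have mc : ∀ x ∈ F, x ∈ centralizer (F : Set G) := fun x hx y hy => comm_of_sq hB.sq hy hx
  refine ⟨inf_le_left, ⟨k.ht.xs.z_mem, mc _ m1⟩, fun x hx => h.cen_sq' q hF hB hx.2, ?_⟩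
  obtain ⟨a, a1, a2, -, a4, a5, -⟩ := h.rhoj q hF hB (j := 2) (by decide) (by decide)
  obtain ⟨b, b1, b2, -, b4, b5, -⟩ := h.rhoj q hF hB (j := 4) (by decide) (by decide)
  have l1 : zpowers (ψ 1) ⊔ zpowers z ≤ O2C z ⊓ (O2C (ψ 1) ⊓ centralizer (F : Set G)) :=
    sup_le (zpowers_le.2 ⟨k.mem, k.ht.xs.z_mem, mc _ m1⟩)
      (zpowers_le.2 ⟨k.xs.z_mem, k.z_mem, mc _ hB.z_mem⟩)
  have l2 : zpowers (ψ 1) ⊔ zpowers z ⊔ zpowers a ≤ O2C (ψ 1) ⊓ centralizer (F : Set G) :=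
    sup_le (l1.trans inf_le_right) (zpowers_le.2 ⟨a1, a2⟩)
  have n1 : ψ 1 ∈ zpowers (ψ 1) ⊔ zpowers z := mem_sup_left (mem_zpowers _)
  have k1 := k.ht.xs.card_sup_zpowers (zpowers_le.2 k.ht.xs.z_mem) (mem_zpowers _) k.z_mem fun e =>
    ((mem_zpowers_invol k.tt).1 e).elim k.xs.z_ne k.ne.symm
  have k2 := k.ht.xs.card_sup_zpowers (fun x hx => (l1 hx).2.1) n1 a1 fun e => a4 (l1 e).1
  have k3 := k.ht.xs.card_sup_zpowers (fun x hx => (l2 hx).1) (mem_sup_left n1) b1 fun e => by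
    rcases (k.ht.xs.mem_sup_zpowers (fun x hx => (l1 hx).2.1) n1 a1).1 e with e | e
    · exact b4 (l1 e).1
    · exact absurd (q.lin_unique (q.lin_mul b5 a5) (q.lin_of_mem (l1 e).1) (mm_lt _ _) (by decide))
        (by decide +kernel)
  rw [k2, k1, Nat.card_zpowers, k.ht.xs.orderOf_z] at k3
  exact k3.ge.trans (card_le_of_le (sup_le l2 (zpowers_le.2 ⟨b1, b2⟩)))

omit q hF

theorem exists_frame : ∃ ψ, QC (O2C z) z ψ ∧ ∀ k < 128, ψ k ∈ F ↔ k % 64 < 8 := by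
  obtain ⟨s, hs, n⟩ := exists_not_mem_list (A := F) [1, z] (by have := hB.card; simp; omega)
  simp only [List.mem_cons, List.not_mem_nil, or_false, not_or] at n
  obtain ⟨ψ, a, -, b⟩ := hB.frame' h.1.xs h.1.card hs n.1 n.2
  exact ⟨ψ, a, b⟩

theorem cen_sq {c : G} (hc : c ∈ centralizer (F : Set G)) : c * c = 1 := by
  obtain ⟨ψ, a, b⟩ := h.exists_frame hB
  exact h.cen_sq' a b hB hc

theorem big (hs : s ∈ F) (s1 : s ≠ 1) : E0 s ∧ Big (O2C s) s (O2C s ⊓ centralizer (F : Set G)) := by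
  by_cases sz : s = z
  · subst sz
    have le : F ≤ O2C s ⊓ centralizer (F : Set G) := fun x hx =>
      ⟨hB.le hx, fun y hy => comm_of_sq hB.sq hy hx⟩
    exact ⟨h, inf_le_left, le hs, fun x hx => h.cen_sq hB hx.2, hB.card.trans (card_le_of_le le)⟩
  · obtain ⟨ψ, a, rfl, b⟩ := hB.frame' h.1.xs h.1.card hs s1 sz
    exact ⟨h.of_isConj (h.2 _ (hB.le hs) (hB.sq _ hs) s1 sz).1, h.big' a b hB⟩

theorem not_big : False := by
  obtain ⟨ψ, q, hF⟩ := h.exists_frame hB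
  set C := centralizer (F : Set G) with hC
  have mc : ∀ x ∈ F, x ∈ C := fun x hx y hy => comm_of_sq hB.sq hy hx
  have sq : ∀ x ∈ C, x * x = 1 := fun x hx => h.cen_sq hB hx
  have step : ∀ {x y}, E0 x ∧ Big (O2C x) x (O2C x ⊓ C) → y ∈ O2C x ⊓ C → y ≠ 1 →
      E0 y ∧ Big (O2C y) y (O2C y ⊓ C) := fun {x y} ⟨a, b⟩ hy y1 => by
    have e : centralizer ((O2C x ⊓ C : Subgroup G) : Set G) = C := le_antisymm
      (fun c hc f hf => comm_of_sq (fun _ => a.cen_sq b) (fun u hu => comm_of_sq sq hu.2 (mc f hf)) hc)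
      fun c hc u hu => comm_of_sq sq hu.2 hc
    exact e ▸ a.big b hy y1
  have meet : ∀ {x y}, E0 x ∧ Big (O2C x) x (O2C x ⊓ C) → E0 y ∧ Big (O2C y) y (O2C y ⊓ C) →
      ∃ t, (E0 t ∧ Big (O2C t) t (O2C t ⊓ C)) ∧ x ∈ O2C t ∧ y ∈ O2C t := fun {x y} a b => by
    obtain ⟨t, ht, t1⟩ : ∃ t ∈ (O2C x ⊓ C) ⊓ (O2C y ⊓ C), t ≠ 1 := by
      by_contra n
      push Not at n
      have := Nat.card_le_card_of_injective (fun p : (O2C x ⊓ C : Subgroup G) × (O2C y ⊓ C : Subgroup G) =>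
        (⟨p.1 * p.2, mul_mem p.1.2.2 p.2.2.2⟩ : C)) fun p p' e => by
          have e1 : p.1.1 * p.2.1 = p'.1.1 * p'.2.1 := congrArg Subtype.val e
          have e2 : p'.1.1⁻¹ * p.1.1 = p'.2.1 * p.2.1⁻¹ := by
            rw [inv_mul_eq_iff_eq_mul, ← mul_assoc, ← e1, mul_inv_cancel_right]
          have := n _ (mem_inf.2 ⟨mul_mem (inv_mem p'.1.2) p.1.2, e2 ▸ mul_mem p'.2.2 (inv_mem p.2.2)⟩)
          exact Prod.ext (Subtype.ext (inv_mul_eq_one.1 this).symm)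
            (Subtype.ext (mul_inv_eq_one.1 (e2 ▸ this)).symm)
      have : Nat.card C ≤ 128 := h.cen_card' q hF hB
      have := Nat.mul_le_mul a.2.card b.2.card
      rw [Nat.card_prod] at *
      omega
    have sy : ∀ {x}, E0 x → t ∈ O2C x → x ∈ O2C t := fun {x} a m => by
      by_cases e : t = x
      · exact e ▸ (e ▸ a).1.xs.z_mem
      · exact (a.fp m (sq t ht.1.2) t1 e).z_mem
    exact ⟨t, step a ht.1 t1, sy a.1 ht.1.1, sy b.1 ht.2.1⟩
  have m := fun k hk e => (hF k hk).2 e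
  have n0 : ∀ k < 64, k ≠ 0 → ψ k ≠ 1 := fun k hk n e =>
    n (q.inj (by omega) (by decide) (e.trans q.mul.zero.symm))
  obtain ⟨ρ, r1, r2, r3, r4, -, r6⟩ := h.rhoj q hF hB (j := 4) (by decide) (by decide)
  have m4 := m 4 (by decide) (by decide)
  have n1 : ρ * ψ 4 ∉ O2C z := fun e => r4 ((mul_mem_cancel_right (hB.le m4)).1 e)
  obtain ⟨t, a, b, c⟩ := meet (step (h.big hB (m 1 (by decide) (by decide)) (n0 1 (by decide) (by decide)))
    ⟨r1, r2⟩ fun e => r4 (e ▸ one_mem _)) (h.big hB m4 (n0 4 (by decide) (by decide)))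
  have u := step a ⟨mul_mem b c, mul_mem r2 (mc _ m4)⟩ fun e => n1 (e ▸ one_mem _)
  obtain ⟨w, a, b, c⟩ := meet u (h.big hB hB.z_mem h.1.xs.z_ne)
  have k : FP z w := (a.1.fp c h.1.zz h.1.xs.z_ne fun e => n1 (e ▸ b)).symm
  have m32 := qc_mem q (show 32 < 128 by decide)
  have e : dd (ρ * ψ 4) (ψ 32) = z := by
    rw [dd_mul_left, dd_eq_one.2 r6, mul_one, dd, h.1.xs.conj_of_ne (hB.le m4) m32
      (mt (qc_comm q (by decide) (by decide)).1 (by decide +kernel)), mul_assoc (ψ 32),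
      ← comm_inv_left (h.1.xs.z_comm _ m32), mul_inv_cancel_left, conj_eq_of_comm (r2 z hB.z_mem).symm]
  by_cases cm : ψ 32 * w = w * ψ 32
  · obtain ⟨R, T⟩ := exists_tri3 k.pair (h.2 w k.mem k.tt k.t_ne k.ne).2
    obtain ⟨x, l⟩ := T.exists_lk_right b (mul_mem r2 (mc _ m4) z hB.z_mem).symm
    rcases T.K_eq l m32 cm with d | d
    · exact h.1.xs.z_ne (e.symm.trans d.2)
    · exact k.t_ne (left_eq_mul.1 (e.symm.trans d.2))
  · exact n1 (k.link_inj m32 cm b (e ▸ k.z_mem))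

end E0

end Cfsg.Agent.X7
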