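import Cfsg.Agent.X7.Lin
import Cfsg.Agent.X7.Zero
import Cfsg.Agent.XSC.SuzY
import Cfsg.Agent.XSC.SuzE

/-! The case `Q ∩ P = ⟨z, t⟩` leads to the Suzuki group. -/

set_option autoImplicit false

namespace Cfsg.Agent.X7

open Subgroup Cfsg.Agent.TT Cfsg.Agent.LES Cfsg.Agent.XSC Cfsg.Agent.XSC.WC Cfsg.Agent.XW
  Cfsg.Agent.U6R Cfsg.Agent.Class.Orth QuadraticMap Module

variable {G : Type*} [Group G] [Finite G] {z t : G}
  {V : Type} [AddCommGroup V] [Module (ZMod 2) V] {q : QuadraticForm (ZMod 2) V}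
  {π : G → V} {r : centralizer ({z} : Set G) →* OG q}

theorem refl_two {a : V} (ha : q a = 1) (x : V) : (refl q a).1 x = x + polar q x a • a := by
  rw [refl_apply, ha, inv_one, one_mul, two_sub]

namespace XH

variable (h : XH z) (o : OS z (O2C z) q π r) {a : V} (ha : q a = 1)
include h o ha

theorem pi_sq {c : centralizer ({z} : Set G)} (hc : r c = refl q a) {x : G} (hx : x ∈ O2C z) :
    c.1 * c ∈ O2C z ∧ π (c * x * (c * x)) = π (c * c) + polar q (π x) a • a := by
  have m : c.1 * c ∈ O2C z := (o.r_eq_one_iff (c * c)).1 (by rw [map_mul, hc, refl_mul_self])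
  have m2 := h.lx.norm _ (mem_c.1 c⁻¹.2) x hx
  refine ⟨m, ?_⟩
  rw [show c * x * (c * x) = c.1 * c * (c⁻¹.1 * x * c⁻¹.1⁻¹ * x) by simp [mul_assoc],
    o.add _ m _ (mul_mem m2 hx), o.add _ m2 _ hx, o.act _ x hx, map_inv, hc, refl_inv, refl_two ha,
    add_right_comm, two_add_self, zero_add]

theorem exists_refl (hs : Function.Surjective r) :
    ∃ i : centralizer ({z} : Set G), i.1 * i = 1 ∧ r i = refl q a := by
  have a0 : a ≠ 0 := fun e => by simp [e] at ha
  obtain ⟨c, hc⟩ := hs (refl q a)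
  have m := (h.pi_sq o ha hc (one_mem _)).1
  have mk : ∀ x ∈ O2C z, x ∈ centralizer ({z} : Set G) := fun x hx => mem_c.2 (h.xs.z_comm x hx)
  have rx : ∀ {c : centralizer ({z} : Set G)} {x} (hx : x ∈ O2C z), r (c * ⟨x, mk x hx⟩) = r c :=
    fun hx => by rw [map_mul, (o.r_eq_one_iff ⟨_, mk _ hx⟩).2 hx, mul_one]
  have va : polar q (π (c.1 * c)) a = 0 := (z2 _).resolve_right fun e => by
    have := o.fix_of_commute c m (mul_assoc _ _ _).symm
    rw [hc, refl_two ha, e, one_smul, add_eq_left] at this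
    exact a0 this
  have k1 : ∀ b, polar q a b = 0 → q b = 1 → polar q (π (c.1 * c)) b = 0 := fun b h1 h2 => by
    obtain ⟨g, hg⟩ := hs (refl q b)
    have m1 : (c⁻¹ * (g * c * g⁻¹)).1 ∈ O2C z := (o.r_eq_one_iff _).1 (by
      simp only [map_mul, map_inv]
      rw [hg, hc, conj_refl, refl_apply_of_polar_eq_zero h1, inv_mul_cancel])
    have := (h.pi_sq o ha hc m1).2
    rw [show c.1 * (c⁻¹ * (g * c * g⁻¹)).1 * (c * (c⁻¹ * (g * c * g⁻¹)).1) = g * (c * c) * g.1⁻¹ by
      simp [mul_assoc], o.act g _ m, hg, refl_two h2, add_right_inj] at this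
    refine (z2 _).resolve_right fun e => ?_
    rw [e, one_smul] at this
    rcases z2 (polar q (π (c⁻¹ * (g * c * g⁻¹)).1) a) with d | d <;> rw [d] at this
    · simp [this] at h2
    · rw [this, one_smul, va] at e
      exact zero_ne_one e
  obtain ⟨c, hc, m⟩ : ∃ c : centralizer ({z} : Set G), r c = refl q a ∧ π (c.1 * c) = 0 := by
    rcases eq_of_perp1 o.nd (x := π (c.1 * c)) (u := a) (fun x hx => (z2 (q x)).elim (fun e => by
      have := k1 (x + a) (by rw [polar_add_right, hx, polar_two_self, add_zero])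
        (by rw [Q_add, e, ha, polar_comm, hx]; rfl)
      rwa [polar_add_right, va, add_zero] at this) (k1 x hx)) with e | e
    · exact ⟨c, hc, e⟩
    · obtain ⟨v, hv⟩ := o.nd.exists_polar_eq a0 1
      obtain ⟨y, hy, rfl⟩ := o.surj v
      exact ⟨c * ⟨y, mk y hy⟩, (rx hy).trans hc, ((h.pi_sq o ha hc hy).2).trans (by
        rw [e, polar_comm, hv, one_smul, two_add_self])⟩
  rcases (o.ker _ (h.pi_sq o ha hc (one_mem _)).1).1 m with e | e
  · exact ⟨c, e, hc⟩
  by_contra n
  obtain ⟨b, hb, rfl⟩ := o.surj a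
  have k : ∀ x ∈ O2C z, x * b = b * x → c.1⁻¹ * x * c = x⁻¹ := fun x hx cx => by
    have := h.pi_sq o ha (rx hx |>.trans hc) (one_mem _)
    have k2 := (h.pi_sq o ha hc hx).2
    rw [m, (o.comm x hx b hb).1 cx, zero_smul, add_zero] at k2
    rcases (o.ker _ this.1).1 k2 with d | d
    · exact absurd ⟨_, d, (rx hx).trans hc⟩ n
    · have d' : c * x * (c * x) = c.1 * c := d.trans e.symm
      exact eq_inv_of_mul_eq_one_left (mul_left_cancel (a := c.1 * c) (by
        rw [mul_one]; exact Eq.trans (by group) d'))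
  obtain ⟨x, hx, y, hy, h1, h2, h3⟩ := h.xs.exists_noncomm_in_centralizer (by rw [h.card]; decide) hb
  have := k _ (mul_mem hx hy) (comm_mul_left h1 h2)
  rw [show c.1⁻¹ * (x * y) * c = c.1⁻¹ * x * c * (c.1⁻¹ * y * c) by group, k x hx h1, k y hy h2,
    ← mul_inv_rev, inv_inj, h3] at this
  exact h.xs.z_ne (left_eq_mul.1 this)

theorem refl_cent {i : centralizer ({z} : Set G)} (i2 : i.1 * i = 1) (hi : r i = refl q a)
    (iQ : i.1 ∉ O2C z) : IsConj i.1 (z * i) ∧ ∀ g, g * z = z * g → g * i = i * g →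
      (∀ x ∈ O2C z, x * i = i * x → g * x = x * g) → InV z i g := by
  have a0 : a ≠ 0 := fun e => by simp [e] at ha
  have sa : Sa (O2C z) z i := ⟨h.lx, i2, mem_c.1 i.2, iQ⟩
  obtain ⟨v, hv⟩ := o.nd.exists_polar_eq a0 1
  obtain ⟨y, hy, rfl⟩ := o.surj v
  have mb := sa.uu_mem hy
  have pb : π (uu i.1 y) = a := by
    rw [o.pi_eqv (dd_mem h.lx sa.s_comm hy) (uu_eqv_dd sa hy), dd, o.pi_comm i hy, hi, refl_two ha,
      polar_comm, hv, one_smul, add_right_comm, two_add_self, zero_add]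
  have ub : uu i.1 (uu i.1 y) = z := (uu_uu sa y).trans (o.sq_z mb (pb ▸ ha))
  have nb : uu i.1 y * i ≠ i * uu i.1 y := fun e => h.xs.z_ne (ub.symm.trans ((uu_eq_one_iff i2).2 e))
  refine ⟨isConj_iff.2 ⟨_, by rw [← uu_mul_s i2, ub]⟩, ?_⟩
  have cov : ∀ v, polar q a v = 0 → ∃ x ∈ O2C z, x * i = i * x ∧ (v = π x ∨ v = π x + a) := by
    intro v hv
    obtain ⟨x, hx, rfl⟩ := o.surj v
    have e : Eqv z (uu i.1 x) 1 := (uu_eqv_dd sa hx).trans h.zz (o.eqv_of_pi (dd_mem h.lx sa.s_comm hx)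
      (one_mem _) (by rw [dd, o.pi_comm i hx, hi, refl_two ha, polar_comm, hv, zero_smul, add_zero,
        two_add_self, o.pi_one]))
    rcases eqv_one_iff.1 e with d | d
    · exact ⟨x, hx, (uu_eq_one_iff i2).1 d, Or.inl rfl⟩
    · exact ⟨_, mul_mem mb hx, (uu_eq_one_iff i2).1 (by rw [uu_conj_A sa mb hx e, ub, d, h.zz]),
        Or.inr (by rw [o.add _ mb _ hx, pb, add_comm a, two_add_add'])⟩
  have k1 : ∀ g ∈ O2C z, g * i = i * g → (∀ x ∈ O2C z, x * i = i * x → g * x = x * g) → Eqv z g 1 := by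
    intro g hg h1 h2
    have ga : polar q (π g) a = 0 := (z2 _).resolve_right fun e => by
      have := o.fix_of_commute i hg h1.symm
      rw [hi, refl_two ha, e, one_smul, add_eq_left] at this
      exact a0 this
    rcases eq_of_perp1 o.nd (x := π g) (u := a) (fun v hv => by
      obtain ⟨x, hx, c, rfl | rfl⟩ := cov v hv
      · exact (o.comm g hg x hx).1 (h2 x hx c)
      · rw [polar_add_right, (o.comm g hg x hx).1 (h2 x hx c), ga, add_zero]) with e | e
    · exact o.eqv_of_pi hg (one_mem _) (e.trans o.pi_one.symm)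
    · exact absurd (comm_of_eqv sa.s_comm.symm (o.eqv_of_pi mb hg (pb.trans e.symm)) h1) nb
  intro g hz h1 h2
  let c : centralizer ({z} : Set G) := ⟨g, mem_c.2 hz⟩
  have ca : (r c).1 a = a := by
    have : r c * r i * (r c)⁻¹ = r i := by
      rw [← map_inv, ← map_mul, ← map_mul]; exact congrArg r (Subtype.ext (conj_eq_of_comm h1))
    rw [hi, conj_refl] at this
    have := congrArg (fun g : OG q => g.1 (π y)) this
    simp only [refl_two ha, refl_two ((OG.map_Q _ _).trans ha), add_right_inj, polar_comm q (π y) a, hv,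
      one_smul] at this
    rcases z2 (polar q (π y) ((r c).1 a)) with d | d <;> rw [d] at this
    exacts [absurd (by simpa using this.symm) a0, by simpa using this]
  have fx : ∀ v, polar q a v = 0 → (r c).1 v = v := fun v hv => by
    obtain ⟨x, hx, d, rfl | rfl⟩ := cov v hv
    · exact o.fix_of_commute c hx (h2 x hx d)
    · rw [map_add, o.fix_of_commute c hx (h2 x hx d), ca]
  have ext : ∀ k : OG q, (∀ v, polar q a v = 0 → k.1 v = v) → (r c).1 (π y) = k.1 (π y) → r c = k :=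
    fun k hk e => OG.ext fun v => (z2 (polar q a v)).elim (fun d => (fx v d).trans (hk v d).symm)
      fun d => by
        have d' : polar q a (v + π y) = 0 := by rw [polar_add_right, d, hv]; rfl
        rw [← two_add_add' v (π y), map_add, map_add k.1, fx _ d', hk _ d', e]
  rcases eq_of_perp1 o.nd (x := (r c).1 (π y) + π y) (u := a) (fun v hv => by
    rw [polar_add_left, ← OG.map_polar (r c) (π y) v, fx v hv, two_add_self]) with e | e
  · have := (o.r_eq_one_iff c).1 (ext 1 (fun _ _ => rfl) (two_eq_of_add e))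
    exact (eqv_one_iff.1 (k1 g this h1 h2)).imp_right Or.inl
  · have : r c = r i := hi ▸ ext _ (fun v d => refl_apply_of_polar_eq_zero ((polar_comm _ _ _).trans d))
      (by rw [refl_two ha, polar_comm, hv, one_smul, ← e, add_comm ((r c).1 _), two_add_add])
    have m : g * i ∈ O2C z := (o.r_eq_one_iff (c * i)).1 (by rw [map_mul, this, hi, refl_mul_self])
    have := (k1 _ m (comm_mul_left h1 rfl) fun x hx d => comm_mul_left (h2 x hx d) d.symm).mul_right
      sa.s_comm
    rw [mul_assoc, i2, mul_one, one_mul] at this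
    exact Or.inr (Or.inr (this.imp_right fun e => e.trans sa.s_comm))

end XH

theorem FP.not_surj [IsSimpleGroup G] (k : FP z t) (o : OS z (O2C z) q π r) :
    ¬ Function.Surjective r := fun hs => by
  have h := k.xh
  have h6 := k.finrank_six o
  have := Module.finite_of_finrank_pos (R := ZMod 2) (M := V) (by omega)
  have hi := o.nd.index_commutator_eq_two rfl (by omega) (Or.inr (by omega))
  obtain ⟨a, -, ha⟩ := o.nd.ndon_top.exists_Q_ne_zero trivial (k.T0 o)
  obtain ⟨i, i2, ri⟩ := h.exists_refl o (z2_ne.1 ha) hs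
  have n0 : refl q a ∉ commutator (OG q) := fun m => by
    obtain ⟨f, hf⟩ := o.nd.exists_isHyp (k.T0 o) (k.qT o)
    rw [o.nd.eq_top_of_refl (Or.inr (by omega)) (commutator (OG q)) fun v hv =>
      (mul_mem_cancel_left m).1 ((o.nd.commutator_eq_EG_of_five_le (by omega)).ge
        (o.nd.refl_mul_refl_mem_EG hf (by omega) ha ((z2_ne.1 ha).trans (z2_ne.1 hv).symm)))] at hi
    simp at hi
  have iQ : i.1 ∉ O2C z := fun m => n0 (ri ▸ (o.r_eq_one_iff i).2 m ▸ one_mem _)
  obtain ⟨c1, c2⟩ := h.refl_cent o (z2_ne.1 ha) i2 ri iQ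
  obtain ⟨T, t1, t2, t3, t4⟩ := h.exists_T (mem_c.1 i.2) (i2 ▸ one_mem _)
  obtain ⟨y, y1, y2, y3⟩ := h.transfer (H := ((commutator (OG q)).comap r).map (Subgroup.subtype _))
    (map_subtype_le _) (by rw [relIndex, subgroupOf, comap_map_eq_self_of_injective
      (subtype_injective _), index_comap_of_surjective _ hs, hi]) (mem_c.1 i.2)
    (fun m => n0 (ri ▸ mem_comap.1 ((mem_map_iff_mem (subtype_injective _)).1 m))) i2 t1 t2
  have zi : IsConj z i := by
    rcases c2 y (y3 z (t4 z h.xs.z_mem (mem_c.1 i.2).symm)).symm (y3 _ t3).symm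
      fun x hx e => (y3 x (t4 x hx e)).symm with e | e | e | e
    exacts [absurd e (h.of_isConj y1).xs.z_ne, absurd e y2, e ▸ y1, (e ▸ y1).trans c1.symm]
  have h' := h.of_isConj zi
  have zn : z ∉ O2C i.1 := fun m => iQ (FP.z_mem ⟨h', zi.symm, m, fun e => iQ (e ▸ h.xs.z_mem)⟩)
  have d0 : ∀ d ∈ O2C z, d ∈ O2C i.1 → d = 1 := fun d h1 h2 => by
    rcases c2 d (h.xs.z_comm d h1) (h'.xs.z_comm d h2) fun x hx e => (dd_eq_one.1 ((eqv_one_iff.1
      (dd_of_mem h.lx hx h1)).resolve_right fun c => zn (c.subst (motive := (· ∈ O2C i.1)) (dd_mem h'.lx e h2)))).symm with e | e | e | e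
    exacts [e, absurd (e ▸ h2) zn, absurd (e ▸ h1) iQ,
      absurd ((mul_mem_cancel_left h.xs.z_mem).1 (e ▸ h1)) iQ]
  obtain ⟨x, hx, n⟩ := exists_not_mem_list (A := O2C i.1 ⊓ centralizer {z}) [1, z, i.1, z * i]
    (lt_of_lt_of_le (show 4 < 8 by decide) (eight_le ⟨h'.lx, h.zz, (mem_c.1 i.2).symm, zn⟩ h'.card))
  refine n (by
    simpa [InV] using c2 x (mem_c.1 hx.2) (h'.xs.z_comm x hx.1) fun w hw e => dd_eq_one.1
      (d0 _ (dd_mem h.lx (mem_c.1 hx.2) hw) (dd_inv_swap w x ▸ inv_mem (dd_mem h'.lx e hx.1))))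

theorem FP.suz [IsSimpleGroup G] (k : FP z t) (h0 : ∀ x ∈ O2C z, x ∈ O2C t → InV z t x) {c : G}
    (hc : c * z = z * c) (n : c * t * c⁻¹ * t ≠ t * (c * t * c⁻¹)) : Cfsg.Spor.IsoSuz G := by
  obtain ⟨-, ⟨⟨e⟩⟩ | ⟨⟨e⟩⟩⟩ := exists_equiv_plus_or_minus k.xs.isExtraspecial (n := 3) k.xh.card
  · obtain ⟨π, r, o⟩ := exists_OS_aux k.lx (xs_plus (by decide)) e
    have le := k.comm_le o h0 hc n
    have h6 := k.finrank_six o
    obtain ⟨A, a1, a2⟩ := exists_elab_congr e.symm (exists_elab_plus 3)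
    have a3 := eq_of_le_of_card_ge (le_sup_left (a := A)) (a2 ▸ k.xs.top.card_le_of_comm (n := 3)
      k.xh.card fun a ha b hb => congrArg Subtype.val (a1.1.1.1 ⟨a, ha⟩ ⟨b, hb⟩))
    refine (E0.not_big (z := z) (F := A.map (Subgroup.subtype _)) ⟨k.xh, fun s hs s2 s1 sz => ?_⟩
      ⟨map_subtype_le _, ⟨_, a3.ge (mem_sup_right (mem_zpowers _)), rfl⟩, ?_,
        by rw [card_map_of_injective (subtype_injective _), a2]; rfl⟩).elim
    · obtain ⟨f, hf⟩ := o.nd.exists_isHyp (k.T0 o) (k.qT o)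
      have le' := (o.nd.commutator_eq_EG_of_five_le (by omega)).ge.trans le
      obtain ⟨_, ⟨g, rfl⟩, u, u0, m⟩ := o.nd.exists_map_singular_smul hf (by omega) _
        (fun v => le' (eichler_mem_EG _ _)) (fun v => le' (eichler_mem_EG _ _))
        (fun e => ((o.ker s hs).1 e).elim s1 sz) ((o.sq s hs).1 s2)
      rw [z2_ne.1 u0, one_smul] at m
      have ks : FP z s := (k.cj (mem_c.1 g⁻¹.2)).of_eqv (o.eqv_of_pi hs (k.cj (mem_c.1 g⁻¹.2)).mem
        (by rw [o.act g⁻¹ t k.mem, map_inv, eq_comm, OG.inv_apply_eq_iff, m]))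
      refine ⟨ks.conj, fun x h1 h2 => ?_⟩
      have m1 := k.lx.norm g (mem_c.1 g.2) x h1
      have := (k.pi_inV o m1).1 (h0 _ m1 (ks.E_map o k g m h1 h2))
      rwa [o.act g x h1, ← m, (r g).1.injective.eq_iff, map_eq_zero_iff _ (r g).1.injective,
        ← ks.pi_inV o h1] at this
    · rintro _ ⟨x, hx, rfl⟩
      exact congrArg Subtype.val ((sq x).symm.trans (a1.2 x hx))
  · obtain ⟨π, r, o⟩ := exists_OS_aux k.lx (xs_minus _) e
    have le := k.comm_le o h0 hc n
    have h6 := k.finrank_six o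
    have hi := o.nd.index_commutator_eq_two rfl (by omega) (Or.inr (by omega))
    have h1 : r.range.index = 2 := ((Nat.dvd_prime Nat.prime_two).1 ((index_dvd_of_le le).trans hi.dvd)).resolve_left
      fun e => k.not_surj o (MonoidHom.range_eq_top.1 (index_eq_one.1 e))
    have h2 := S0288.result (F := ZMod 2) (q := 2) (by simp) 3 (by omega) 1 1 aniso_two
    rw [← bMinus_quad, Nat.card_congr (isoEquiv _ _ (LinearMap.BilinMap.toQuadraticMap_apply _)).toEquiv,
      ← r.range.card_mul_index, h1] at h2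
    have h3 : r.ker = (O2C z).subgroupOf _ := Subgroup.ext o.r_eq_one_iff
    have h4 := r.ker.card_mul_index
    rw [index_ker, h3, Nat.card_congr (subgroupOfEquivOfLe fun x hx =>
      mem_c.2 (k.xs.z_comm x hx)).toEquiv, k.xh.card] at h4
    replace h2 : Nat.card r.range * 2 = 51840 := h2.trans (by decide)
    have hC : Nat.card (centralizer ({z} : Set G)) = 3317760 := by omega
    obtain ⟨g, rfl⟩ := isConj_iff.1 k.conj
    obtain ⟨t, ht⟩ := XSC.SuzU.stB k.lx k.xh.card hC k.mem k.ne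
    clear h1 h2 h3 h4 hi h6 le o
    obtain ⟨θ, h1, z0, rfl, h2⟩ := XSC.SuzU.final (XSC.SuzU.stK (XSC.SuzU.stW ht))
    exact ⟨(MulEquiv.ofBijective θ ⟨h1, XSC.suz_surj θ h1 z0
      (by rw [← orderOf_injective θ h1]; exact k.xs.orderOf_z) h2 hC⟩).symm⟩

end Cfsg.Agent.X7
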