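import Cfsg.Agent.X7.TwoA

/-! A simple group does not have `C(z) / Q ≅ L₃(2) . 2`. -/

set_option autoImplicit false

namespace Cfsg.Agent.X7

open Subgroup Cfsg.Agent.TT Cfsg.Agent.LES Cfsg.Agent.XSC Cfsg.Agent.XSC.WC Cfsg.Agent.XW
  Cfsg.Agent.He5 Cfsg.Agent.Comp

variable {G : Type*} [Group G] [Finite G] {z d i x y : G} {ψ : ℕ → G} {N : ℕ}

namespace TS

variable (h : TS z ψ)
include h

theorem good (hd : d * z = z * d) : ∃ N < 2 ^ 36, Lin z ψ d N ∧ good N = true := by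
  have q := h.qc
  obtain ⟨N, a1, a2, a3⟩ := q.exists_lin h.xh.lx passP hd
  refine ⟨N, a1, a2, ((or'_eq_true _ _).1 a3).resolve_left fun k => ?_⟩
  simp only [anyL_iff, force_eq, and'_eq_true, not'_eq_true] at k
  obtain ⟨j, -, -, k⟩ := k
  obtain ⟨r, r1⟩ := h.w1
  obtain ⟨s, s1⟩ := h.w2
  obtain ⟨u, u1⟩ := h.w3
  have l : ∀ k, ∃ g, Lin z ψ g (BN.nth i6 gT k) ∧ Lin z ψ g⁻¹ (BN.nth i6 hT k) := fun k => by
    by_cases hk : k < 57
    · have := (allLT_iff _ _).1 gT_chk k hk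
      simp only [and'_eq_true, beq_iff] at this
      have l := this.1 ▸ q.lin_ev (x := fun k => [r, s, u].getD k 1)
        (l := [34634481857, 34638680193, sg]) (by
          rintro (_ | _ | _ | k)
          exacts [r1, s1, u1, q.lin_of_mem (one_mem _)]) (BN.nth [] gW k)
      exact ⟨_, l, lin_inv q l this.2⟩
    · rw [BN.nth_of_le _ _ _ (not_lt.1 hk), BN.nth_of_le _ _ _ (not_lt.1 hk)]
      exact ⟨1, q.lin_of_mem (one_mem _), q.lin_of_mem (inv_mem (one_mem _))⟩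
  obtain ⟨g1, -, b1⟩ := l (lin N j)
  obtain ⟨g2, b2, -⟩ := l j
  exact k (h.st _ _ (q.lin_mul b1 (q.lin_mul a2 b2)) (mm_lt _ _))

theorem not_D (k : FP z y) {v : ℕ} (hv : v ∈ [27, 45, 54]) (e : Eqv z y (ψ v)) : False := by
  have q := h.qc
  obtain ⟨p, hp, rfl⟩ : ∃ p ∈ [(27, 34498166850), (45, 8866762884), (54, 17718845697)], p.1 = v := by
    clear e; revert v; decide
  have v1 : p.1 < 64 := by clear e; revert p; decide
  have key : ∀ a ∈ O2C y, a * z = z * a → a ∉ O2C z → Lin z ψ a p.2 := fun a ha hz n => by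
    obtain ⟨N, -, a2, a3⟩ := h.good hz
    simp only [X7.good, and'_eq_true, allL_iff, or'_eq_true, beq_iff, anyLT_iff, force_eq, cmB,
      not'_eq_true] at a3
    rcases a3.2.2 p hp with rfl | rfl | ⟨s, s1, s2, s3⟩
    · exact absurd (by simpa using q.lin_mem k.lx a2 (q.lin_of_mem (one_mem _))) n
    · exact a2
    · have m := qc_mem q (show s < 128 by omega)
      have x1 : lin N s ^^^ s < 64 := Nat.xor_lt_two_pow (n := 6) (lin_lt _ _) s1
      have c := (dd_code q k.xs a2 (show s < 128 by omega)).symm k.zz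
      refine (s3 ((k.inV_eqv (k.L1 ha hz m (comm_of_eqv (k.xs.z_comm _ m).symm e
        ((qc_comm q (by omega) (by omega)).2 s2).symm).symm)).imp (fun f => ?_) fun f => ?_)).elim
      · exact q.eq_of_eqv x1 (by decide) (q.mul.zero ▸ c.trans k.zz f)
      · exact q.eq_of_eqv x1 v1 (c.trans k.zz (f.trans k.zz e))
  obtain ⟨a, ha, b, hb, h1, h2, h3, h4, h5⟩ := k.exists_two
  have := q.lin_mem k.lx (key _ (mul_mem ha hb) (comm_mul_left h1 h2) h5) (key a ha h1 h3)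
  exact h4 (by simpa using this)

theorem exists_i : ∃ i, Lin z ψ i sg ∧ Eqv z (i * i) 1 := by
  have q := h.qc
  obtain ⟨u, u1⟩ := h.w3
  have m : u * u ∈ O2C z := by
    simpa using q.lin_mem h.xh.lx (show mm sg sg = i6 by decide +kernel ▸ q.lin_mul u1 u1)
      (q.lin_of_mem (one_mem _))
  obtain ⟨k, hk, e⟩ := qc_code q m
  have e1 := lin_eq q u1 (by omega) hk (((e.symm q.zz).conj u1.1).trans q.zz (by
    rwa [show u * (u * u) * u⁻¹ = u * u by group]))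
  have t : ∀ k < 64, lin sg k = k → ∃ j < 8, lin sg j ^^^ (k ^^^ j) = 0 := by decide +kernel
  obtain ⟨j, hj, e2⟩ := t k hk e1
  refine ⟨u * ψ j, show mm sg i6 = sg by decide +kernel ▸
    q.lin_mul u1 (q.lin_of_mem (qc_mem q (by omega))), ?_⟩
  have := q.eqv_mul ((lin_lt _ _).trans (by decide)) (Nat.xor_lt_two_pow (n := 7) (by omega) (by omega))
    (q.lin_all u1 (show j < 128 by omega)) (q.eqv_mul (by omega) (by omega) e (Eqv.refl _ (ψ j)))
  rwa [e2, q.mul.zero, show u * ψ j * u⁻¹ * (u * u * ψ j) = u * ψ j * (u * ψ j) by group] at this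

theorem exists_H (hi : Lin z ψ i sg) : ∃ H ≤ centralizer ({z} : Set G),
    H.relIndex (centralizer {z}) = 2 ∧ i ∉ H := by
  have q := h.qc
  let F : Subgroup G := O2C z ⊓ centralizer {ψ 1, ψ 2, ψ 4}
  have hF : ∀ k < 64, ψ k ∈ F ↔ k < 8 := fun k hk => by
    have : ∀ k < 64, (mq 1 k = mq k 1 ∧ mq 2 k = mq k 2 ∧ mq 4 k = mq k 4) ↔ k < 8 := by decide +kernel
    have hk' : k < 128 := by omega
    rw [← this k hk, ← qc_comm q (by decide) hk', ← qc_comm q (by decide) hk', ← qc_comm q (by decide) hk']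
    simp [F, mem_centralizer_iff, qc_mem q hk']
  have zF : z ∈ F := ⟨h.xh.xs.z_mem, by
    rintro _ (rfl | rfl | rfl) <;> exact q.comm (by decide)⟩
  have k0 : ∀ d N, Lin z ψ d N → t0 N = true → d ∈ normalizer (F : Set G) := fun d N hd t => by
    refine mem_normalizer_fintype fun x hx => ?_
    obtain ⟨k, hk, e⟩ := qc_code q hx.1
    simp only [t0, allLT_iff, blt_iff] at t
    exact ((e.conj hd.1).trans q.zz (q.lin_all hd (by omega))).mem zF ((hF _ (lin_lt _ _)).2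
      (t k ((hF k hk).1 ((e.symm q.zz).mem zF hx))))
  have n : i ∉ centralizer ({z} : Set G) ⊓ normalizer (F : Set G) := fun m => absurd ((hF _ (lin_lt _ _)).1
    (((q.lin_all hi (by decide : 1 < 128)).symm q.zz).mem zF
      ((mem_normalizer_iff.1 m.2 _).1 ((hF 1 (by decide)).2 (by decide))))) (by decide +kernel)
  refine ⟨_, inf_le_left, index_eq_two_iff.2 ⟨⟨i, mem_c.2 hi.1⟩, fun b => ?_⟩, n⟩
  simp only [mem_subgroupOf, coe_mul]
  obtain ⟨N, -, a2, a3⟩ := h.good (mem_c.1 b.2)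
  simp only [X7.good, and'_eq_true, or'_eq_true, force_eq] at a3
  have x : ¬ (b.1 * i ∈ centralizer ({z} : Set G) ⊓ normalizer (F : Set G) ∧
    b.1 ∈ centralizer ({z} : Set G) ⊓ normalizer (F : Set G)) := fun m =>
      n ((mul_mem_cancel_left m.2).1 m.1)
  rcases a3.1 with t | t
  · exact Or.inr ⟨⟨b.2, k0 _ _ a2 t⟩, fun m => x ⟨m, b.2, k0 _ _ a2 t⟩⟩
  · have m := mem_inf.2 ⟨mul_mem b.2 (mem_c.2 hi.1), k0 _ _ (q.lin_mul a2 hi) t⟩
    exact Or.inl ⟨m, fun m' => x ⟨m, m'⟩⟩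

variable (hi : Lin z ψ i sg) (i2 : Eqv z (i * i) 1)
include hi i2

theorem phi {j : ℕ} (hj : j < 8) : Eqv z (ψ j * (i * ψ j * i⁻¹)) (ψ (9 * j)) ∧
    i * (ψ j * (i * ψ j * i⁻¹)) * i⁻¹ = (ψ j * (i * ψ j * i⁻¹))⁻¹ ∧
      ψ j * i * (ψ j)⁻¹ = ψ j * (i * ψ j * i⁻¹) * i := by
  have q := h.qc
  have t : ∀ j < 8, mq j j = 0 ∧ j ^^^ lin sg j = 9 * j := by decide +kernel
  have hj' : j < 128 := by omega
  have s := inv_eq_of_mul_eq_one_right ((qc_sq q hj').2 (t j hj).1)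
  have c : i * i * ψ j = ψ j * (i * i) := comm_of_eqv (q.comm hj').symm i2 (by simp)
  refine ⟨(t j hj).2 ▸ q.eqv_mul hj' ((lin_lt _ _).trans (by decide)) (Eqv.refl _ _) (q.lin_all hi hj'),
    ?_, by rw [s]; group⟩
  rw [mul_inv_rev, conj_inv, s]
  calc _ = i * ψ j * i⁻¹ * (i * i * ψ j * (i * i)⁻¹) := by group
    _ = _ := by rw [conj_eq_of_comm c]

theorem code (hx : x ∈ O2C z) (c : x * i = i * x) : IsConj i (x * i) ∧
    ∃ v ∈ [0, 27, 45, 54], Eqv z x (ψ v) := by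
  have q := h.qc
  have xs := h.xh.xs
  obtain ⟨k, hk, e⟩ := qc_code q hx
  have e1 := lin_eq q hi (by omega) hk (((e.symm q.zz).conj hi.1).trans q.zz (by
    rwa [conj_eq_of_comm c.symm]))
  have t : ∀ k < 64, lin sg k = k → ∃ j < 8, 9 * j = k := by decide +kernel
  have t1 : ∀ j < 8, mq (9 * j) (9 * j) = 0 → 9 * j ∈ [0, 27, 45, 54] := by decide +kernel
  obtain ⟨j, hj, rfl⟩ := t k hk e1
  obtain ⟨p1, p2, p3⟩ := h.phi hi i2 hj
  have m := qc_mem q (show 9 * j < 128 by omega)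
  have e2 := e.trans q.zz (p1.symm q.zz)
  refine ⟨?_, _, t1 j hj ((qc_sq q (by omega)).1 ?_), e⟩
  · have c1 : IsConj i (ψ j * (i * ψ j * i⁻¹) * i) := isConj_iff.2 ⟨_, p3⟩
    rcases e2 with rfl | rfl
    · exact c1
    · obtain ⟨b1, b2, -⟩ := h.phi hi i2 (show 1 < 8 by decide)
      have b3 := (eqv_sq xs (qc_mem q (by decide)) b1).trans ((xs.sq (qc_mem q (by decide))).resolve_left
        (mt (qc_sq q (by decide)).1 (by decide +kernel)))
      generalize ψ 1 * (i * ψ 1 * i⁻¹) = b at b2 b3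
      have c2 : IsConj i (z * i) := isConj_iff.2 ⟨b, by
        rw [← b3, show b * i * b⁻¹ = b * (i * b * i⁻¹)⁻¹ * i by group, b2, inv_inv]⟩
      refine c2.trans (isConj_iff.2 ⟨ψ j, ?_⟩)
      rw [← mul_assoc, q.comm (by omega), mul_assoc z, mul_assoc z, p3, ← mul_assoc,
        ← xs.z_comm _ (p1.mem xs.z_mem m)]
  · have := conj_eq_of_comm (comm_of_eqv hi.1.symm (e2.symm q.zz) c).symm
    rw [← eqv_sq xs m p1, ← mul_eq_one_iff_eq_inv.2 (this.symm.trans p2)]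

theorem exists_x {j : ℕ} (hj : j = 3 ∨ j = 6) : ∃ x ∈ O2C z, x * i = i * x ∧ Eqv z x (ψ (9 * j)) := by
  obtain ⟨p1, p2, -⟩ := h.phi hi i2 (show j < 8 by omega)
  have m := qc_mem h.qc (show 9 * j < 128 by omega)
  refine ⟨_, p1.mem h.xh.xs.z_mem m, (comm_of_conj_eq (p2.trans (inv_eq_of_mul_eq_one_right ?_))).symm, p1⟩
  rw [eqv_sq h.xh.xs m p1, qc_sq h.qc (by omega)]
  rcases hj with rfl | rfl <;> decide +kernel

omit i2 in
theorem c12 (hz : y * z = z * y) (c : y * i = i * y) : ∃ N ∈ c12, Lin z ψ y N := by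
  obtain ⟨N, -, a2, a3⟩ := h.good hz
  simp only [X7.good, and'_eq_true, or'_eq_true, not'_eq_true, beq_iff, anyL_iff] at a3
  obtain ⟨_, b, rfl⟩ := a3.2.1.resolve_left (not_not.2 (h.qc.lin_unique (h.qc.lin_mul a2 hi)
    (c ▸ h.qc.lin_mul hi a2) (mm_lt _ _) (mm_lt _ _)))
  exact ⟨N, b, a2⟩

omit hi i2 in
theorem fix (hy : Lin z ψ y N) {v : ℕ} (hv : v < 64) (e : Eqv z x (ψ v)) (c : y * x = x * y) :
    lin N v = v := lin_eq h.qc hy (by omega) hv (((e.symm h.qc.zz).conj hy.1).trans h.qc.zz (by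
      rwa [conj_eq_of_comm c]))

theorem cen (hz : y * z = z * y) (c : y * i = i * y)
    (k : ∀ x ∈ O2C z, x * i = i * x → y * x = x * y) : y ∈ O2C z ∨ y * i⁻¹ ∈ O2C z := by
  obtain ⟨N, a1, a2⟩ := h.c12 hi hz c
  obtain ⟨u, u1, u2, u3⟩ := h.exists_x hi i2 (Or.inl rfl)
  obtain ⟨w, w1, w2, w3⟩ := h.exists_x hi i2 (Or.inr rfl)
  have t : ∀ N ∈ X7.c12, lin N 27 = 27 → lin N 54 = 54 → N = i6 ∨ N = sg := by decide +kernel
  rcases t N a1 (h.fix a2 (by decide) u3 (k u u1 u2)) (h.fix a2 (by decide) w3 (k w w1 w2)) with rfl | rfl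
  · exact Or.inl (by simpa using h.qc.lin_mem h.xh.lx a2 (h.qc.lin_of_mem (one_mem _)))
  · exact Or.inr (by simpa [mul_assoc] using h.xh.lx.norm i hi.1 _ (h.qc.lin_mem h.xh.lx a2 hi))

theorem not_conj (hx : x ∈ O2C z) (c : x * i = i * x) (n : x ≠ z) : ¬ IsConj z x := fun k => by
  obtain ⟨-, v, hv, e⟩ := h.code hi i2 hx c
  have k' : FP z x := ⟨h.xh, k, hx, n⟩
  rcases List.mem_cons.1 hv with rfl | hv
  exacts [k'.not_eqv (h.qc.mul.zero ▸ e), h.not_D k' hv e]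

theorem not_iD : ¬ IsConj z i := fun zi => by
  classical
  have q := h.qc
  have lx := h.xh.lx
  have h' := h.xh.of_isConj zi
  have iQ : i ∉ O2C z := fun m =>
    absurd (q.lin_unique hi (q.lin_of_mem m) (by decide) (by decide)) (by decide)
  have zn : z ∉ O2C i := fun m => iQ (FP.z_mem ⟨h', zi.symm, m, fun e => iQ (e ▸ lx.z_mem)⟩)
  have sa : Sa (O2C i) i z := ⟨h'.lx, q.zz, hi.1.symm, zn⟩
  obtain ⟨d, ⟨d1, d2⟩, d3⟩ : ∃ d ∈ O2C z ⊓ O2C i, d ≠ 1 := by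
    by_contra n
    push Not at n
    obtain ⟨y, hy, ny⟩ := exists_not_mem_list (A := O2C i ⊓ centralizer {z}) [1, i]
      (lt_of_lt_of_le (show 2 < 8 by decide) (eight_le sa h'.card))
    refine ny ?_
    rcases h.cen hi i2 (mem_c.1 hy.2) (h'.xs.z_comm y hy.1) fun w hw e => dd_eq_one.1 (n _
      ⟨dd_mem lx (mem_c.1 hy.2) hw, dd_inv_swap w y ▸ (O2C i).inv_mem (dd_mem h'.lx e hy.1)⟩) with m | m
    · simp [n y ⟨m, hy.1⟩]
    · simp [mul_inv_eq_one.1 (n _ ⟨m, (O2C i).mul_mem hy.1 (inv_mem h'.xs.z_mem)⟩)]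
  have cd : ∀ d ∈ O2C z ⊓ O2C i, d ≠ 1 → ∃ v ∈ [27, 45, 54], Eqv z d (ψ v) := fun d hd n => by
    obtain ⟨-, v, hv, e⟩ := h.code hi i2 hd.1 (h'.xs.z_comm d hd.2)
    refine ⟨v, (List.mem_cons.1 hv).resolve_left fun c => ?_, e⟩
    rw [c, q.mul.zero] at e
    exact (eqv_one_iff.1 e).elim n fun c => zn (c ▸ hd.2)
  have inj : ∀ d ∈ O2C z ⊓ O2C i, ∀ d' ∈ O2C z ⊓ O2C i, Eqv z d d' → d = d' := fun d hd d' hd' e =>
    e.resolve_right fun c => zn (((O2C i).mul_mem_cancel_left hd'.2).1 (c ▸ hd.2))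
  have cY : ∀ y ∈ O2C i ⊓ centralizer {z}, ∀ d ∈ O2C z ⊓ O2C i, y * d = d * y := fun y hy d hd =>
    dd_eq_one.1 ((eqv_one_iff.1 (dd_of_mem h'.lx hy.1 hd.2)).resolve_right fun c =>
      iQ (c ▸ dd_mem lx (mem_c.1 hy.2) hd.1))
  choose! f hf using fun y (hy : y ∈ O2C i ⊓ centralizer {z}) =>
    h.c12 hi (mem_c.1 hy.2) (h'.xs.z_comm y hy.1)
  have bd : ∀ T : Finset ℕ, (∀ y ∈ O2C i ⊓ centralizer {z}, f y ∈ T) →
      Nat.card (O2C i ⊓ centralizer {z} : Subgroup G) ≤ T.card * Nat.card (O2C z ⊓ O2C i : Subgroup G) :=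
    fun T hT => U6R.card_le_of_fun f T hT fun x hx y hy e =>
      ⟨q.lin_mem lx (hf y hy).2 (e ▸ (hf x hx).2), (O2C i).mul_mem (inv_mem hx.1) hy.1⟩
  obtain ⟨v, v1, v2⟩ := cd d ⟨d1, d2⟩ d3
  have lt : ∀ v ∈ [27, 45, 54], v < 64 := by decide
  have h8 : Nat.card (O2C i ⊓ centralizer {z} : Subgroup G) ≤ 8 := by
    by_cases c : ∃ d' ∈ O2C z ⊓ O2C i, d' ∉ [1, d]
    · obtain ⟨d', m, n⟩ := c
      simp only [List.mem_cons, List.not_mem_nil, or_false, not_or] at n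
      obtain ⟨w, w1, w2⟩ := cd d' m n.1
      have t : ∀ v ∈ [27, 45, 54], ∀ w ∈ [27, 45, 54], w ≠ v → ∀ N ∈ X7.c12, lin N v = v → lin N w = w →
        N ∈ ({i6, sg} : Finset ℕ) := by decide +kernel
      have b1 := bd {i6, sg} fun y hy => t v v1 w w1 (fun e => n.2 (inj _ m _ ⟨d1, d2⟩
        (w2.trans q.zz (e ▸ v2.symm q.zz)))) _ (hf y hy).1 (h.fix (hf y hy).2 (lt v v1) v2
          (cY y hy d ⟨d1, d2⟩)) (h.fix (hf y hy).2 (lt w w1) w2 (cY y hy d' m))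
      choose! g hg using fun x (hx : x ∈ O2C z ⊓ O2C i) => (h.code hi i2 hx.1 (h'.xs.z_comm x hx.2)).2
      have b2 := U6R.card_le_of_fun (X := O2C z ⊓ O2C i) (K := ⊥) g {0, 27, 45, 54}
        (fun x hx => by simpa using (hg x hx).1) fun x hx y hy e => by
          rw [inj x hx y hy ((hg x hx).2.trans q.zz (e ▸ (hg y hy).2.symm q.zz))]; simp
      have b3 : ({i6, sg} : Finset ℕ).card ≤ 2 := Finset.card_le_two
      rw [card_bot, show ({0, 27, 45, 54} : Finset ℕ).card = 4 by decide] at b2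
      nlinarith
    · have b2 : Nat.card (O2C z ⊓ O2C i : Subgroup G) ≤ 2 := not_lt.1 fun k =>
        c (exists_not_mem_list [1, d] k)
      have t : ∀ v ∈ [27, 45, 54], (X7.c12.toFinset.filter fun N => lin N v = v).card ≤ 4 := by
        decide +kernel
      have b1 := bd (X7.c12.toFinset.filter fun N => lin N v = v) fun y hy => Finset.mem_filter.2
        ⟨List.mem_toFinset.2 (hf y hy).1, h.fix (hf y hy).2 (lt v v1) v2 (cY y hy d ⟨d1, d2⟩)⟩
      have := t v v1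
      nlinarith
  obtain ⟨p, -, p1, p2⟩ := exists_uu_eq sa h'.card h8
  have dz := lx.z_comm d d1
  have m := mul_mem d1 lx.z_mem
  have c := comm_mul_left (h'.xs.z_comm d d2) hi.1.symm
  refine h.not_conj hi i2 m c (by simpa using d3) ((zi.trans (h.code hi i2 m c).1).trans
    (isConj_iff.2 ⟨p, ?_⟩ : IsConj (d * z) _).symm)
  rw [← conj_mul, conj_eq_of_comm (p2 d d2 dz), ← uu_mul_s q.zz, p1, mul_assoc, hi.1]

omit hi i2 in
theorem false [IsSimpleGroup G] : False := by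
  obtain ⟨i, hi, i2⟩ := h.exists_i
  obtain ⟨H, h1, h2, h3⟩ := h.exists_H hi
  have q := h.qc
  have xs := h.xh.xs
  obtain ⟨T, t1, t2, t3, t4⟩ := h.xh.exists_T hi.1 (i2.mem xs.z_mem (one_mem _))
  have s : ∀ k < 128, mq k k ≠ 0 → ψ k * ψ k = z := fun k hk n =>
    (xs.sq (qc_mem q hk)).resolve_left (mt (qc_sq q hk).1 n)
  obtain ⟨y, y1, y2, y3⟩ : ∃ y, IsConj z y ∧ y ≠ z ∧ ∀ x ∈ T, x * y = y * x := by
    rcases eqv_one_iff.1 i2 with e | e
    · exact h.xh.transfer h1 h2 hi.1 h3 e t1 t2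
    · exact h.xh.transfer4 h1 h2 hi.1 h3 e (s 9 (by decide) (by decide)) (s 19 (by decide) (by decide))
        (by rw [← q.mul _ (by decide) _ (by decide)]; exact s _ (by decide) (by decide)) t1 t2
  have yi := (y3 i t3).symm
  rcases h.cen hi i2 (y3 z (t4 z xs.z_mem hi.1.symm)).symm yi fun x hx e => (y3 x (t4 x hx e)).symm
    with m | m
  · exact h.not_conj hi i2 m yi y2 y1
  · have := (h.code hi i2 m (comm_mul_left yi (by simp))).1
    exact h.not_iD hi i2 (y1.trans (by simpa using this.symm))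

end TS

end Cfsg.Agent.X7
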