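import Mathlib
import Cfsg.Agent.XW.B
import Cfsg.Agent.XSC.Pair
import Cfsg.Agent.Transfer.ThompsonFour
import Cfsg.Agent.Transfer.ThompsonExtremal

/-! Large extraspecial groups of order `2 ^ 7`: fused pairs, flags, transfer. -/

set_option autoImplicit false

namespace Cfsg.Agent.X7

open Subgroup Cfsg.Agent.TT Cfsg.Agent.LES Cfsg.Agent.XSC Cfsg.Agent.XSC.WC Cfsg.Agent.XW

variable {G : Type*} [Group G] {z t : G}

theorem mem_c {x t : G} : x ∈ centralizer ({t} : Set G) ↔ x * t = t * x :=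
  mem_centralizer_singleton_iff

theorem eqv_one_iff_mem (hz : z * z = 1) {x : G} : Eqv z x 1 ↔ x ∈ zpowers z := by
  rw [eqv_one_iff, mem_zpowers_invol hz]

/-- elements of `C(z)` with `[c, A] ≤ B` -/
def tr (z : G) (A B : Subgroup G) (hB : ∀ c, c * z = z * c → ∀ b ∈ B, c * b * c⁻¹ ∈ B) :
    Subgroup G where
  carrier := {c | c * z = z * c ∧ ∀ a ∈ A, dd c a ∈ B}
  one_mem' := ⟨by simp, fun a _ => by simp [dd]⟩
  mul_mem' := fun {g k} hg hk => ⟨comm_mul_left hg.1 hk.1, fun a ha => by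
    rw [dd_mul_left]; exact B.mul_mem (hB g hg.1 _ (hk.2 a ha)) (hg.2 a ha)⟩
  inv_mem' := fun {g} hg => ⟨comm_inv_left hg.1, fun a ha => by
    have := hB _ (comm_inv_left hg.1) _ (B.inv_mem (hg.2 a ha))
    rwa [show g⁻¹ * (dd g a)⁻¹ * g⁻¹⁻¹ = dd g⁻¹ a by simp only [dd]; group] at this⟩

theorem tr_conj {A B : Subgroup G} {hB : ∀ c, c * z = z * c → ∀ b ∈ B, c * b * c⁻¹ ∈ B}
    (hA : ∀ c, c * z = z * c → ∀ b ∈ A, c * b * c⁻¹ ∈ A) {c d : G} (hc : c * z = z * c)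
    (hd : d ∈ tr z A B hB) : c * d * c⁻¹ ∈ tr z A B hB :=
  ⟨comm_mul_left (comm_mul_left hc hd.1) (comm_inv_left hc), fun a ha => by
    have := hB c hc _ (hd.2 _ (hA _ (comm_inv_left hc) a ha))
    rwa [conj_dd, show c * (c⁻¹ * a * c⁻¹⁻¹) * c⁻¹ = a by group] at this⟩

section Sa

variable [Finite G] {Q : Subgroup G} {s : G}

theorem card_Q0_le (h : Sa Q z s) : Nat.card (Q ⊓ centralizer (hat h : Set G) : Subgroup G) ≤
    2 * Nat.card (Q ⊓ centralizer {s} : Subgroup G) := by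
  have k : ∀ x ∈ Q ⊓ centralizer (hat h : Set G), Eqv z (uu s x) 1 := fun x hx =>
    eqv_one_of_cent_hat h hx.1 fun y hy => cmv_eq_zero.2 (hx.2 _ (uu_mem_hat h hy))
  have k' : ∀ x ∈ Q ⊓ centralizer (hat h : Set G), x ∉ Q ⊓ centralizer {s} →
      uu s x = z := fun x hx n => (eqv_one_iff.1 (k x hx)).resolve_left fun c =>
    n ⟨hx.1, mem_c.2 ((uu_eq_one_iff h.s_sq).1 c)⟩
  refine card_le_two_mul_of_mul_mem (fun a ha => ⟨ha.1, ?_⟩) fun a ha b hb n1 n2 =>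
    ⟨mul_mem ha.1 hb.1, mem_c.2 ((uu_eq_one_iff h.s_sq).1 ?_)⟩
  · rintro _ ⟨y, hy, c⟩
    exact (eqv_comm_iff h.toXS ha.1 c).2 (h.uu_comm_A hy ha.1 (mem_c.1 ha.2))
  · rw [uu_conj_A h ha.1 hb.1 (k b hb), k' a ha n1, k' b hb n2, h.z_sq]

omit [Finite G] in
theorem hat_le_Q0 (h : Sa Q z s) : hat h ≤ Q ⊓ centralizer (hat h : Set G) := by
  rintro a ⟨y, hy, c⟩
  refine ⟨hat_le h ⟨y, hy, c⟩, ?_⟩
  rintro b ⟨w, hw, c'⟩
  exact (eqv_comm_iff h.toXS (hat_le h ⟨y, hy, c⟩) c').2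
    ((eqv_comm_iff h.toXS (h.uu_mem hw) c).2 (uu_comm_uu h hy hw)).symm

theorem sixteen_le (h : Sa Q z s) (hc : Nat.card Q = 128) :
    16 ≤ Nat.card (Q ⊓ centralizer (hat h : Set G) : Subgroup G) := by
  have a := h.toXS.card_mul_card_centralizer (hat_le h) (z_mem_hat h)
  have b := card_le_of_le (hat_le_Q0 h)
  rw [hc] at a
  by_contra n
  nlinarith

theorem eight_le (h : Sa Q z s) (hc : Nat.card Q = 128) :
    8 ≤ Nat.card (Q ⊓ centralizer {s} : Subgroup G) := by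
  have := sixteen_le h hc
  have := card_Q0_le h
  omega

theorem exists_uu_eq (h : Sa Q z s) (hc : Nat.card Q = 128)
    (h8 : Nat.card (Q ⊓ centralizer {s} : Subgroup G) ≤ 8) :
    ∃ p ∈ Q, uu s p = z ∧ ∀ d ∈ Q, d * s = s * d → p * d = d * p := by
  have a := h.toXS.card_mul_card_centralizer (hat_le h) (z_mem_hat h)
  have b := sixteen_le h hc
  have c := card_Q0_le h
  have e : hat h = Q ⊓ centralizer (hat h : Set G) := eq_of_le_of_card_ge (hat_le_Q0 h) (by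
    rw [show Nat.card (Q ⊓ centralizer (hat h : Set G) : Subgroup G) = 16 by omega, hc] at a
    omega)
  obtain ⟨p, hp, n⟩ : ∃ p ∈ Q ⊓ centralizer (hat h : Set G), p ∉ Q ⊓ centralizer {s} := by
    by_contra n
    push Not at n
    have := card_le_of_le (show _ ≤ Q ⊓ centralizer {s} from n)
    omega
  refine ⟨p, hp.1, (eqv_one_iff.1 (eqv_one_of_cent_hat h hp.1 fun y hy =>
    cmv_eq_zero.2 (hp.2 _ (uu_mem_hat h hy)))).resolve_left fun c =>
      n ⟨hp.1, mem_c.2 ((uu_eq_one_iff h.s_sq).1 c)⟩, fun d hd ds => ?_⟩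
  obtain ⟨y, hy, c⟩ := e.ge hp
  exact (eqv_comm_iff h.toXS hd c).2 (h.uu_comm_A hy hd ds)

end Sa

/-- `O₂(C(z))` is large extraspecial of order `2 ^ 7` -/
structure XH (z : G) : Prop where
  lx : LX (O2C z) z
  card : Nat.card (O2C z) = 128

namespace XH

variable (h : XH z)
include h

theorem of_isConj {d : G} (hd : IsConj z d) : XH d := by
  refine ⟨?_, card_O2C_conj hd ▸ h.card⟩
  obtain ⟨g, rfl⟩ := isConj_iff.1 hd
  exact h.lx.O2C_conj g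

theorem xs : XS (O2C z) z := h.lx.toXS

theorem zz : z * z = 1 := h.lx.z_sq

theorem zp (c : G) (hc : c * z = z * c) (b : G) (hb : b ∈ zpowers z) : c * b * c⁻¹ ∈ zpowers z := by
  rcases (mem_zpowers_invol h.zz).1 hb with rfl | rfl
  · simp
  · rw [conj_eq_of_comm hc]; exact mem_zpowers _

variable [Finite G]

/-- an element trivial on an invariant flag lies in `Q` -/
theorem flag {Y : Subgroup G} (hY : Y ≤ O2C z) (hz : z ∈ Y)
    (hn : ∀ c, c * z = z * c → ∀ y ∈ Y, c * y * c⁻¹ ∈ Y) {c : G} (hc : c * z = z * c)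
    (h1 : ∀ y ∈ Y, Eqv z (dd c y) 1)
    (h2 : ∀ x ∈ O2C z, (∀ y ∈ Y, y * x = x * y) → dd c x ∈ Y) : c ∈ O2C z := by
  have hC : ∀ c, c * z = z * c → ∀ x ∈ O2C z ⊓ centralizer (Y : Set G),
      c * x * c⁻¹ ∈ O2C z ⊓ centralizer (Y : Set G) := fun c hc x hx =>
    ⟨h.lx.norm c hc x hx.1, fun y hy => by
      have := (comm_conj_iff c _ _).2 (hx.2 _ (hn _ (comm_inv_left hc) y hy))
      rwa [show c * (c⁻¹ * y * c⁻¹⁻¹) * c⁻¹ = y by group] at this⟩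
  refine le_O2C (D := tr z Y (zpowers z) h.zp ⊓ tr z (O2C z ⊓ centralizer (Y : Set G)) Y hn)
    (fun d => ⟨4, Subtype.ext ?_⟩) (fun d hd => hd.1.1)
    (fun c hc d hd => ⟨tr_conj hn hc hd.1, tr_conj hC hc hd.2⟩)
    ⟨⟨hc, fun y hy => (eqv_one_iff_mem h.zz).1 (h1 y hy)⟩, hc, fun x hx => h2 x hx.1 hx.2⟩
  obtain ⟨d, hd⟩ := d
  have d2 := mul_mem hd hd
  have : d * d * (d * d) ∈ O2C z := mem_of_dd h.lx fun x hx => by
    refine (dd_sq h.lx d2.1.1 hx).trans h.zz ((eqv_one_iff_mem h.zz).2 (d2.1.2 _ ?_))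
    refine (dd_sq h.lx hd.1.1 hx).mem hz (hd.2.2 _ ⟨dd_mem h.lx hd.1.1 hx, fun y hy => ?_⟩)
    rw [← cmv_eq_zero, cmv_comm, cmv_dd h.lx hd.1.1 hx (hY hy), cmv_comm]
    exact cmv_of_eqv_one h.xs hx ((eqv_one_iff_mem h.zz).2 ((inv_mem hd).1.2 y hy))
  have := h.xs.pow_four this
  simpa [pow_succ, mul_assoc] using this

theorem odd_index : Odd (centralizer ({z} : Set G)).index := by
  have := Fact.mk Nat.prime_two
  obtain ⟨P, hP⟩ := (O2C_isPGroup z).exists_le_sylow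
  have h1 : (P : Subgroup G) ≤ centralizer {z} := fun x hx =>
    mem_c.2 (h.lx.comm_of_two_subgroup P.2 hP x hx)
  rw [← Nat.not_even_iff_odd, even_iff_two_dvd]
  exact fun e => P.not_dvd_index (e.trans (index_dvd_of_le h1))

theorem no_two [IsSimpleGroup G] (M : Subgroup G) : M.index ≠ 2 := fun hM => by
  rcases (normal_of_index_eq_two hM).eq_bot_or_eq_top with rfl | rfl
  · have := card_le_card_group (O2C z)
    rw [h.card, ← index_bot, hM] at this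
    omega
  · simp at hM

theorem of_transfer {H u : _} {T : Subgroup G} (hi : relIndex H (centralizer ({z} : Set G)) = 2)
    (hu : u * z = z * u) (hu0 : u ∉ H)
    (e : ∃ g : G, g * u * g⁻¹ ∈ H ∧ T.map (MulAut.conj g).toMonoidHom ≤ centralizer {z}) :
    ∃ y, IsConj z y ∧ y ≠ z ∧ ∀ x ∈ T, x * y = y * x := by
  obtain ⟨g, h1, h2⟩ := e
  refine ⟨_, isConj_cj g⁻¹ z, fun e => hu0 ?_, fun x hx => ?_⟩
  · have hg := mem_c.2 (comm_of_conj_eq e)
    have := (normal_of_index_eq_two hi).conj_mem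
      ⟨_, mul_mem (mul_mem (inv_mem_iff.1 hg) (mem_c.2 hu)) hg⟩ h1 ⟨_, hg⟩
    simpa [mem_subgroupOf, mul_assoc] using this
  · have := (comm_conj_iff g⁻¹ _ _).2 (mem_c.1 (h2 (mem_map_of_mem _ hx)))
    simpa [mul_assoc] using this

theorem transfer [IsSimpleGroup G] {H : Subgroup G} (hH : H ≤ centralizer {z})
    (hi : H.relIndex (centralizer {z}) = 2) {u : G} (hu : u * z = z * u) (hu0 : u ∉ H)
    (h2 : u * u = 1) {T : Subgroup G} (hT : IsPGroup 2 T) (hTu : ∀ x ∈ T, x * u = u * x) :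
    ∃ y, IsConj z y ∧ y ≠ z ∧ ∀ x ∈ T, x * y = y * x :=
  h.of_transfer hi hu hu0 ((Transfer.thompson_transfer_extremal h.odd_index hH hi
    (by rwa [sq]) hT hTu).resolve_left fun ⟨M, _, e, _⟩ => h.no_two M e)

theorem transfer4 [IsSimpleGroup G] {H : Subgroup G} (hH : H ≤ centralizer {z})
    (hi : H.relIndex (centralizer {z}) = 2) {u a b : G} (hu : u * z = z * u) (hu0 : u ∉ H)
    (h2 : u * u = z) (ha : a * a = z) (hb : b * b = z) (hab : a * b * (a * b) = z) {T : Subgroup G}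
    (hT : IsPGroup 2 T) (hTu : ∀ x ∈ T, x * u = u * x) :
    ∃ y, IsConj z y ∧ y ≠ z ∧ ∀ x ∈ T, x * y = y * x :=
  h.of_transfer hi hu hu0 ((Transfer.thompson_transfer_four h.odd_index hH hi (a := a) (b := b)
    (by rw [show u ^ 4 = u * u * (u * u) by simp [pow_succ, mul_assoc], h2, h.zz])
    (by rintro w (rfl | rfl | rfl) <;> simp only [*]) hT hTu).resolve_left
      fun ⟨M, _, e, _⟩ => h.no_two M e)

/-- the centraliser of `i` in `Q ⟨i⟩` -/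
theorem exists_T {i : G} (hi : i * z = z * i) (h2 : i * i ∈ O2C z) : ∃ T : Subgroup G,
    IsPGroup 2 T ∧ (∀ x ∈ T, x * i = i * x) ∧ i ∈ T ∧ ∀ x ∈ O2C z, x * i = i * x → x ∈ T := by
  have := Fact.mk Nat.prime_two
  have h3 : IsPGroup 2 (zpowers i) := by
    refine IsPGroup.of_card (n := _) (?_ : _ = 2 ^ (Nat.log 2 (orderOf i)))
    have : orderOf i ∣ 2 ^ 3 := orderOf_dvd_of_pow_eq_one (by
      have := h.xs.pow_four h2
      rwa [← sq, ← pow_mul] at this)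
    obtain ⟨k, -, e⟩ := (Nat.dvd_prime_pow Nat.prime_two).1 this
    rw [Nat.card_zpowers, e, Nat.log_pow (by decide)]
  exact ⟨(zpowers i ⊔ O2C z) ⊓ centralizer {i}, (h3.to_sup_of_normal_right' (O2C_isPGroup z)
    (zpowers_le.2 (h.lx.mem_normalizer hi))).to_inf_left, fun x hx => mem_c.1 hx.2,
    ⟨mem_sup_left (mem_zpowers i), mem_c.2 rfl⟩, fun x hx e => ⟨mem_sup_right hx, mem_c.2 e⟩⟩

end XH

/-- a conjugate `t ≠ z` of `z` in `O₂(C(z))` -/
structure FP (z t : G) : Prop where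
  xh : XH z
  conj : IsConj z t
  mem : t ∈ O2C z
  ne : t ≠ z

namespace FP

variable (h : FP z t) {a b c e x y s r : G}
include h

theorem ht : XH t := h.xh.of_isConj h.conj

theorem lx : LX (O2C z) z := h.xh.lx

theorem xs : XS (O2C z) z := h.xh.xs

theorem zz : z * z = 1 := h.xh.zz

theorem tt : t * t = 1 := h.ht.zz

theorem t_ne : t ≠ 1 := h.ht.xs.z_ne

theorem tz : t * z = z * t := h.xs.z_comm t h.mem

theorem map_conj (g : G) : FP (g * z * g⁻¹) (g * t * g⁻¹) :=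
  ⟨h.xh.of_isConj (isConj_cj g z), ((isConj_cj g z).symm.trans h.conj).trans (isConj_cj g t),
    conj_mem_O2C_conj g h.mem, by simpa using h.ne⟩

theorem cj (hc : c * z = z * c) : FP z (c * t * c⁻¹) := by
  have := h.map_conj c
  rwa [conj_eq_of_comm hc] at this

theorem of_eqv (e : Eqv z s t) : FP z s := by
  obtain ⟨q, hq, rfl⟩ := exists_conj_of_eqv h.xs h.mem h.t_ne h.ne e
  exact h.cj (h.xs.z_comm q hq)

theorem not_eqv : ¬ Eqv z t 1 := fun e => (eqv_one_iff.1 e).elim h.t_ne h.ne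

theorem exists_y : ∃ y ∈ O2C z, y * t ≠ t * y := by
  obtain ⟨y, hy, n⟩ := h.xs.exists_not_comm h.mem h.t_ne h.ne
  exact ⟨y, hy, n.symm⟩

theorem inV_eqv (e : InV z t x) : Eqv z x 1 ∨ Eqv z x t := by
  rcases e with rfl | rfl | rfl | rfl
  exacts [Or.inl (Or.inl rfl), Or.inl (eqv_z _), Or.inr (Or.inl rfl), Or.inr (Or.inr h.tz.symm)]

theorem dd_t (hr : r ∈ O2C t) (hrz : r * z = z * r) (hy : y ∈ O2C z) :
    dd r y * t = t * dd r y := by
  have := h.ht.xs.z_comm r hr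
  rw [← cmv_eq_zero, cmv_dd h.lx hrz hy h.mem, dd_eq_one.2 (comm_inv_left this), cmv_comm,
    cmv_one_left]

variable [Finite G]

theorem z_mem : z ∈ O2C t := by
  obtain ⟨g, rfl⟩ := isConj_iff.1 h.conj
  exact h.lx.mem_O2C_conj h.mem

theorem symm : FP t z := ⟨h.ht, h.conj.symm, h.z_mem, h.ne.symm⟩

theorem pair : LXPair (O2C z) (O2C t) z t :=
  ⟨h.lx, h.ht.lx, h.mem, h.z_mem, h.ne, fun a ha x => by
    rw [← ha, mem_O2C_conj]; simp [mul_assoc]⟩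

theorem inV_E (e : InV z t x) : x ∈ O2C z ∧ x ∈ O2C t :=
  ⟨e.mem h.xs.z_mem h.mem, e.mem h.z_mem h.ht.xs.z_mem⟩

theorem E_sq (h1 : e ∈ O2C z) (h2 : e ∈ O2C t) : e * e = 1 := LES.E_sq h.pair ⟨h1, h2⟩

theorem E_comm (h1 : a ∈ O2C z) (h2 : a ∈ O2C t) (h3 : b ∈ O2C z) (h4 : b ∈ O2C t) :
    a * b = b * a := LES.E_comm h.pair ⟨h1, h2⟩ ⟨h3, h4⟩

theorem E_conj (h1 : e ∈ O2C z) (h2 : e ∈ O2C t) (hy : y ∈ O2C z) : y * e * y⁻¹ ∈ O2C t :=
  (h.xs.conj_mem (A := O2C z ⊓ O2C t) inf_le_left ⟨h.xs.z_mem, h.z_mem⟩ hy ⟨h1, h2⟩).2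

theorem card_E : Nat.card (O2C z ⊓ O2C t : Subgroup G) ≤ 16 := by
  have := card_E_sq_le h.pair
  rw [h.xh.card] at this
  by_contra n
  nlinarith

theorem card_R : Nat.card (O2C t ⊓ centralizer {z} : Subgroup G) = 64 := by
  have := card_P_eq h.pair
  rw [h.ht.card] at this
  omega

theorem exists_two : ∃ a ∈ O2C t, ∃ b ∈ O2C t, a * z = z * a ∧ b * z = z * b ∧ a ∉ O2C z ∧
    b ∉ O2C z ∧ a * b ∉ O2C z := by
  by_contra n
  push Not at n
  have := card_le_two_mul_of_mul_mem (A := O2C t ⊓ centralizer {z}) (B := O2C z ⊓ O2C t)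
    (fun x hx => ⟨hx.2, mem_c.2 (h.xs.z_comm x hx.1)⟩) fun a ha b hb n1 n2 =>
      ⟨n a ha.1 b hb.1 (mem_c.1 ha.2) (mem_c.1 hb.2) (fun e => n1 ⟨e, ha.1⟩) fun e => n2 ⟨e, hb.1⟩,
        mul_mem ha.1 hb.1⟩
  have := h.card_E
  have := h.card_R
  omega

theorem dd_E (hr : r ∈ O2C t) (hrz : r * z = z * r) (hs : s ∈ O2C z) (hst : s * t = t * s) :
    dd r s ∈ O2C z ∧ dd r s ∈ O2C t := comm_mem_E h.pair hs hst hr hrz

theorem dd_comm (hr : r ∈ O2C t) (hrz : r * z = z * r) (hs : s ∈ O2C z) (hst : s * t = t * s) :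
    dd r s * s = s * dd r s := by
  have h1 := h.dd_E hr hrz hs hst
  rw [← cmv_eq_zero, ← sqv_dd h.lx hrz hs, sqv_eq_zero]
  exact h.E_sq h1.1 h1.2

theorem dd_comm' (hr : r ∈ O2C t) (hrz : r * z = z * r) (hs : s ∈ O2C z) (hst : s * t = t * s) :
    dd r s * r = r * dd r s := by
  rw [← dd_inv_swap]
  exact comm_inv_left (h.symm.dd_comm hs hst hr hrz)

/-- `[C_P(z), C_Q(t)] ≤ ⟨z, t⟩` -/
theorem L1 (hr : r ∈ O2C t) (hrz : r * z = z * r) (hs : s ∈ O2C z) (hst : s * t = t * s) :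
    InV z t (dd r s) := by
  by_contra n
  have c0 := h.dd_E hr hrz hs hst
  obtain ⟨w, hw, hwt, n1⟩ : ∃ w ∈ O2C z, w * t = t * w ∧ w * dd r s ≠ dd r s * w := by
    by_contra k
    push Not at k
    rcases h.xs.eq_of_comm_centralizer h.mem c0.1 k with e | e | e | e
    exacts [n (Or.inl e), n (Or.inr (Or.inl e)), n (Or.inr (Or.inr (Or.inl e))),
      n (Or.inr (Or.inr (Or.inr (e.trans h.tz))))]
  have c1 := h.dd_E hr hrz hw hwt
  have n2 : dd r w * s ≠ s * dd r w := by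
    have a := cmv_eq_zero.2 (h.dd_comm hr hrz (mul_mem hs hw) (comm_mul_left hst hwt))
    rw [cmv_dd_mul h.lx hrz hs hw (mul_mem hs hw), cmv_mul_right h.xs hs hw c0.1,
      cmv_mul_right h.xs hs hw c1.1, cmv_eq_zero.2 (h.dd_comm hr hrz hs hst),
      cmv_eq_zero.2 (h.dd_comm hr hrz hw hwt), cmv_eq_one.2 n1.symm] at a
    rw [← cmv_eq_one]
    generalize cmv (dd r w) s = u at a
    revert u; decide
  have zt := h.z_mem
  have tt := h.ht.xs.z_mem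
  have le1 : zpowers t ⊔ zpowers z ≤ O2C z ⊓ O2C t ⊓ centralizer {s} ⊓ centralizer {w} :=
    sup_le (zpowers_le.2 ⟨⟨⟨h.mem, tt⟩, mem_c.2 hst.symm⟩, mem_c.2 hwt.symm⟩)
      (zpowers_le.2 ⟨⟨⟨h.xs.z_mem, zt⟩, mem_c.2 (h.xs.z_comm s hs).symm⟩,
        mem_c.2 (h.xs.z_comm w hw).symm⟩)
  have le2 : zpowers t ⊔ zpowers z ⊔ zpowers (dd r s) ≤ O2C z ⊓ O2C t ⊓ centralizer {s} :=
    sup_le (le1.trans inf_le_left) (zpowers_le.2 ⟨c0, mem_c.2 (h.dd_comm hr hrz hs hst)⟩)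
  have le3 : zpowers t ⊔ zpowers z ⊔ zpowers (dd r s) ⊔ zpowers (dd r w) ≤ O2C z ⊓ O2C t :=
    sup_le (le2.trans inf_le_left) (zpowers_le.2 c1)
  have m1 : t ∈ zpowers t ⊔ zpowers z := mem_sup_left (mem_zpowers t)
  have k1 := h.ht.xs.card_sup_zpowers (zpowers_le.2 tt) (mem_zpowers t) zt fun e =>
    ((mem_zpowers_invol h.tt).1 e).elim h.xs.z_ne h.ne.symm
  have k2 := h.ht.xs.card_sup_zpowers (fun x hx => (le1 hx).1.1.2) m1 c0.2 fun e =>
    n1 (mem_c.1 (le1 e).2).symm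
  have k3 := h.ht.xs.card_sup_zpowers (fun x hx => (le2 hx).1.2) (mem_sup_left m1) c1.2 fun e =>
    n2 (mem_c.1 (le2 e).2)
  rw [k2, k1, Nat.card_zpowers, h.ht.xs.orderOf_z] at k3
  have e := eq_of_le_of_card_ge le3 (h.card_E.trans_eq k3.symm)
  have k4 := h.ht.xs.card_mul_card_centralizer (A := O2C z ⊓ O2C t) inf_le_right ⟨h.mem, tt⟩
  rw [← e, k3, h.ht.card, e] at k4
  have e2 : O2C z ⊓ O2C t = O2C t ⊓ centralizer ((O2C z ⊓ O2C t : Subgroup G) : Set G) :=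
    eq_of_le_of_card_ge (fun x hx => ⟨hx.2, fun y hy => h.E_comm hy.1 hy.2 hx.1 hx.2⟩)
      (by rw [← e, k3, e]; omega)
  have le4 : O2C z ⊓ O2C t ≤ centralizer {r} := e ▸ sup_le (sup_le (sup_le
    (zpowers_le.2 (mem_c.2 (h.ht.xs.z_comm r hr).symm)) (zpowers_le.2 (mem_c.2 hrz.symm)))
    (zpowers_le.2 (mem_c.2 (h.dd_comm' hr hrz hs hst))))
    (zpowers_le.2 (mem_c.2 (h.dd_comm' hr hrz hw hwt)))
  rcases eqv_one_iff.1 (dd_of_mem h.lx (e2.ge ⟨hr, fun y hy => mem_c.1 (le4 hy)⟩).1 hs) with e | e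
  exacts [n (Or.inl e), n (Or.inr (Or.inl e))]

theorem third (hy : y ∈ O2C z) (n : y * t ≠ t * y) (h1 : x ∈ O2C t)
    (h2 : x ∈ O2C (y * t * y⁻¹)) : x ∈ O2C z := by
  obtain ⟨p, hp, e⟩ := h.symm.pair.exists_q
  rw [h.xs.conj_of_ne hy h.mem n, h.tz, ← e, mem_O2C_conj] at h2
  have := h.symm.E_conj (by simpa using mul_mem (mul_mem (inv_mem hp) h1) hp) h2 hp
  simpa [mul_assoc] using this

theorem link_inj (hy : y ∈ O2C z) (n : y * t ≠ t * y) (hr : r ∈ O2C t) (h1 : dd r y ∈ O2C t) :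
    r ∈ O2C z := by
  have := h.third hy n (mul_mem (inv_mem h1) hr) (by
    rw [show (dd r y)⁻¹ * r = y * r * y⁻¹ by simp only [dd]; group]
    exact conj_mem_O2C_conj y hr)
  have := mul_mem (mul_mem (inv_mem hy) this) hy
  rwa [show y⁻¹ * ((dd r y)⁻¹ * r) * y = r by simp only [dd]; group] at this

theorem link_surj (hy : y ∈ O2C z) (n : y * t ≠ t * y) (hs : s ∈ O2C z) (hst : s * t = t * s) :
    ∃ r ∈ O2C t, r * z = z * r ∧ dd r y * s ∈ O2C t := by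
  obtain ⟨p, hp, e⟩ := h.symm.pair.exists_q
  have h1 := conj_mem_O2C_conj p hs
  have h2 := (comm_conj_iff p _ _).2 (h.xs.z_comm s hs)
  have h3 := (comm_conj_iff p _ _).2 hst
  rw [conj_eq_of_comm (h.ht.xs.z_comm p hp)] at h3
  rw [e, ← mul_assoc, mul_assoc z t, ← h3, ← mul_assoc, mul_left_inj] at h2
  rw [e, ← h.tz, ← h.xs.conj_of_ne hy h.mem n, mem_O2C_conj] at h1
  have yz := h.xs.z_comm y hy
  refine ⟨_, h1, comm_mul_left (comm_mul_left (comm_inv_left yz) h2) yz, ?_⟩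
  have := mul_mem (mul_mem h1 (h.ht.lx.norm _ (comm_inv_left hst) _ (mul_mem (mul_mem
    (h.ht.lx.norm _ hst _ hp) (inv_mem hp)) (one_mem _)))) (one_mem _)
  convert this using 1
  simp only [dd]; group

/-- an element of `C_P(z)` centralising an invariant subgroup over `⟨z, t⟩` modulo `z` -/
theorem mem_of_triv {Y : Subgroup G} (hY : Y ≤ O2C z) (hz : z ∈ Y) (ht : t ∈ Y)
    (hn : ∀ c, c * z = z * c → ∀ y ∈ Y, c * y * c⁻¹ ∈ Y) (hr : r ∈ O2C t) (hrz : r * z = z * r)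
    (h1 : ∀ y ∈ Y, Eqv z (dd r y) 1) : r ∈ O2C z :=
  h.xh.flag hY hz hn hrz h1 fun _ hx c => (h.L1 hr hrz hx (c t ht).symm).mem hz ht

end FP

end Cfsg.Agent.X7
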