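import Cfsg.Agent.X7.Base
import Cfsg.Agent.He5.QMain

/-! Frames of `2 ^ (1 + 6)` of plus type adapted to given elements. -/

set_option autoImplicit false

namespace Cfsg.Agent.X7

open Subgroup Cfsg.Agent.TT Cfsg.Agent.LES Cfsg.Agent.XSC Cfsg.Agent.XSC.WC Cfsg.Agent.XW
  Cfsg.Agent.He5 Cfsg.Agent.Comp

variable {G : Type*} [Group G] {Q : Subgroup G} {z : G} {ψ : ℕ → G}

theorem qc_card (h : QC Q z ψ) : Nat.card Q = 128 := by
  rw [← Nat.card_fin 128]
  refine Nat.card_congr (Equiv.ofBijective (fun k : Fin 128 => (⟨ψ k, h.mem.2 ⟨k, k.2, rfl⟩⟩ : Q))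
    ⟨fun k l e => Fin.ext (h.inj k.2 l.2 (congrArg Subtype.val e)), fun q => ?_⟩).symm
  obtain ⟨k, hk, e⟩ := h.mem.1 q.2
  exact ⟨⟨k, hk⟩, Subtype.ext e⟩

theorem qc_mem (h : QC Q z ψ) {k : ℕ} (hk : k < 128) : ψ k ∈ Q := h.mem.2 ⟨k, hk, rfl⟩

theorem qc_comm (h : QC Q z ψ) {k l : ℕ} (hk : k < 128) (hl : l < 128) :
    ψ k * ψ l = ψ l * ψ k ↔ mq k l = mq l k := by
  rw [← h.mul _ hk _ hl, ← h.mul _ hl _ hk]
  exact ⟨h.inj (mq_lt hk hl) (mq_lt hl hk), fun e => by rw [e]⟩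

theorem qc_sq (h : QC Q z ψ) {k : ℕ} (hk : k < 128) : ψ k * ψ k = 1 ↔ mq k k = 0 := by
  rw [← h.mul _ hk _ hk, ← h.mul.zero]
  exact ⟨h.inj (mq_lt hk hk) (by decide), fun e => by rw [e]⟩

theorem qc_code (h : QC Q z ψ) {g : G} (hg : g ∈ Q) : ∃ k < 64, Eqv z g (ψ k) := by
  obtain ⟨a, ha, rfl⟩ := h.mem.1 hg
  have : ∀ a < 128, a = a % 64 ∨ a = mq (a % 64) 64 := by decide +kernel
  refine ⟨a % 64, by omega, ?_⟩
  rcases this a ha with e | e
  exacts [Or.inl (congrArg ψ e), Or.inr (by rw [← h.mul_z (by omega), ← e])]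

theorem change' [Finite G] (h : QC Q z ψ) {P : ℕ} (hP : frB P = true) :
    ∃ ψ', QC Q z ψ' ∧ (∀ i < 6, ψ' (2 ^ i) = ψ (col P i)) ∧
      ∀ c M M', Lin z ψ c M → mm M P = mm P M' → Lin z ψ' c M' := by
  have l : ∀ i, col P i < 128 := fun i => (col_lt P i).trans (by decide)
  simp only [frB, allLT_iff, force_eq, and'_eq_true, beq_iff, ite'_eq] at hP
  have c0 : ∀ j < 6, ∀ i < j, j ≠ i + 3 → Commute (ψ (col P i)) (ψ (col P j)) := fun j hj i hi e =>
    (qc_comm h (l i) (l j)).2 (by simpa only [if_neg e] using (hP j hj).2 i hi)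
  have fr : Fr z fun i => ψ (col P i) := by
    refine ⟨h.zz, fun i _ => (h.comm (l i)).symm, fun i hi => (qc_sq h (l i)).2 (hP i hi).1,
      fun i hi j hj h1 h2 => ?_, fun i hi => ?_⟩
    · rcases lt_trichotomy i j with e | rfl | e
      exacts [c0 j hj i e h2, Commute.refl _, (c0 i hi j e h1).symm]
    · have := (hP (i + 3) (by omega)).2 i (by omega)
      rw [if_pos rfl] at this
      rw [← h.mul _ (l i) _ (l _), this, h.mul_z (mq_lt (l _) (l _)), h.mul _ (l _) _ (l _)]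
  refine ⟨_, fr.qc h.z_ne (h.z_eq ▸ qc_mem h (by decide)) (fun i _ => qc_mem h (l i)) (qc_card h),
    fun i hi => fq_basis _ hi, fun c M M' hc e => ⟨hc.1, fun i hi => ?_⟩⟩
  rw [fq_basis _ hi]
  refine (h.lin_all hc (l i)).trans h.zz (Eqv.symm h.zz ?_)
  rw [← col_mm M P hi, e, col_mm P M' hi]
  exact h.eqv_lin (fun i _ => Eqv.refl _ _) _

noncomputable def adB : Bool :=
  bitsAll 0 (fun c0 => force (orth c0) fun o0 =>
    bitsAll 0 (fun c3 => force (Nat.land (Nat.land sgM o0) (orth c3)) fun s1 =>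
      bitsAll 0 (fun c1 => or' (Nat.beq c1 0) (force (orth c1) fun o1 =>
        bitsAll 0 (fun c2 => or' (Nat.beq c2 0) (or' (Nat.beq c2 c1) (force (orth c2) fun o2 =>
          force (Nat.log2 (Nat.land (Nat.land s1 o2) (nt o1))) fun c4 =>
            force (pk c0 c1 c2 c3 c4 (Nat.log2 (Nat.land (Nat.land (Nat.land s1 o1) (orth c4)) (nt o2))))
              fun P => and' (frB P) (and' (and' (Nat.beq (col P 0) c0) (Nat.beq (col P 1) c1))
                (and' (Nat.beq (col P 2) c2) (Nat.beq (col P 3) c3)))))) 64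
            (Nat.land s1 o1))) 64 s1) 64 (Nat.land sgM (nt o0))) 64 sgM

theorem adB_chk : adB = true := by decide +kernel

theorem bits {a : ℕ} (ha : a < 64) : (sgM.testBit a = true ↔ mq a a = 0) ∧ ∀ {b}, b < 64 →
    ((orth a).testBit b = true ↔ mq a b = mq b a) ∧
      ((nt (orth a)).testBit b = true ↔ mq a b ≠ mq b a) := by
  have k := (allLT_iff _ _).1 orth_chk a (by omega)
  simp only [and'_eq_true, beq_iff, force_eq, allLT_iff, ite'_eq] at k
  have m : ∀ {a}, a < 64 → Nat.mod a 64 = a := Nat.mod_eq_of_lt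
  rw [m ha] at k
  refine ⟨bit_iff _ _ _ k.1, fun {b} hb => ?_⟩
  have := bit_iff _ _ _ (k.2 b (by omega))
  rw [m hb] at this
  refine ⟨this, Iff.trans ?_ this.not⟩
  change (orth a ^^^ (2 ^ 64 - 1)).testBit b = true ↔ _
  rw [Nat.testBit_xor, Nat.testBit_two_pow_sub_one]
  simp [hb]

theorem land_bit {x y j : ℕ} (a : x.testBit j = true) (b : y.testBit j = true) :
    (Nat.land x y).testBit j = true := by
  change (x &&& y).testBit j = true
  rw [Nat.testBit_and, a, b]; rfl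

theorem eqv_sq (lx : XS Q z) {a b : G} (hb : b ∈ Q) (e : Eqv z a b) : a * a = b * b := by
  rcases e with rfl | rfl
  · rfl
  · rw [mul_assoc, ← mul_assoc z, ← lx.z_comm b hb, mul_assoc, lx.z_sq, mul_one]

theorem adapt4 [Finite G] (lx : XS Q z) (h : QC Q z ψ) {a b c d : G} (ha : a ∈ Q) (hb : b ∈ Q)
    (hc : c ∈ Q) (hd : d ∈ Q) (a2 : a * a = 1) (b2 : b * b = 1) (c2 : c * c = 1) (d2 : d * d = 1)
    (ab : a * b = b * a) (ac : a * c = c * a) (bc : b * c = c * b) (ad : a * d ≠ d * a)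
    (db : d * b = b * d) (dc : d * c = c * d) (b1 : ¬ Eqv z b 1) (c1 : ¬ Eqv z c 1)
    (n : ¬ Eqv z c b) : ∃ ψ, QC Q z ψ ∧ Eqv z (ψ 1) a ∧ Eqv z (ψ 2) b ∧ Eqv z (ψ 4) c ∧
      Eqv z (ψ 8) d := by
  obtain ⟨i, hi, ei⟩ := qc_code h ha
  obtain ⟨j, hj, ej⟩ := qc_code h hb
  obtain ⟨k, hk, ek⟩ := qc_code h hc
  obtain ⟨l, hl, el⟩ := qc_code h hd
  have s : ∀ {g k}, k < 64 → Eqv z g (ψ k) → g * g = 1 → sgM.testBit k = true := fun hk e g2 =>
    (bits hk).1.2 ((qc_sq h (by omega)).1 ((eqv_sq lx (qc_mem h (by omega)) e).symm.trans g2))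
  have o : ∀ {g g' k k'}, k < 64 → k' < 64 → Eqv z g (ψ k) → Eqv z g' (ψ k') →
      (g * g' = g' * g ↔ mq k k' = mq k' k) := fun {g g' k k'} hk hk' e e' => by
    have m := qc_mem h (show k < 128 by omega)
    have m' := qc_mem h (show k' < 128 by omega)
    rw [← qc_comm h (by omega) (by omega), ← cmv_eq_zero, ← cmv_eq_zero,
      cmv_eqv lx (e'.mem lx.z_mem m') e, cmv_comm, cmv_eqv lx m e', cmv_comm]
  have k0 := of_bitsAll adB_chk (s hi ei a2)
  simp only [zero_add, force_eq] at k0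
  have k3 := of_bitsAll k0 (land_bit (s hl el d2) (((bits hi).2 hl).2.2 (mt (o hi hl ei el).2 ad)))
  simp only [zero_add] at k3
  have k1 := of_bitsAll k3 (land_bit (land_bit (s hj ej b2) (((bits hi).2 hj).1.2 ((o hi hj ei ej).1 ab)))
    (((bits hl).2 hj).1.2 ((o hl hj el ej).1 db)))
  simp only [zero_add, or'_eq_true, beq_iff] at k1
  have k2 := of_bitsAll (k1.resolve_left fun e => b1 (by rwa [e, h.mul.zero] at ej))
    (land_bit (land_bit (land_bit (s hk ek c2) (((bits hi).2 hk).1.2 ((o hi hk ei ek).1 ac)))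
    (((bits hl).2 hk).1.2 ((o hl hk el ek).1 dc))) (((bits hj).2 hk).1.2 ((o hj hk ej ek).1 bc)))
  simp only [zero_add, or'_eq_true, beq_iff, and'_eq_true] at k2
  obtain ⟨p, ⟨p0, p1⟩, p2, p3⟩ := (k2.resolve_left fun e => c1 (by rwa [e, h.mul.zero] at ek)).resolve_left
    fun e => n (ek.trans h.zz (e ▸ ej.symm h.zz))
  obtain ⟨φ, q, e, -⟩ := change' h p
  exact ⟨φ, q, (e 0 (by decide)).trans (congrArg ψ p0) ▸ ei.symm h.zz,
    (e 1 (by decide)).trans (congrArg ψ p1) ▸ ej.symm h.zz,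
    (e 2 (by decide)).trans (congrArg ψ p2) ▸ ek.symm h.zz,
    (e 3 (by decide)).trans (congrArg ψ p3) ▸ el.symm h.zz⟩

theorem lin_lt (M k : ℕ) : lin M k < 64 := by
  have a : ∀ i, sl k i (col M i) < 2 ^ 6 := fun i => sl_lt k i (col_lt M i)
  have x := @Nat.xor_lt_two_pow
  exact x (a 3) (x (a 4) (x (a 5) (x (a 0) (x (a 1) (a 2)))))

theorem lin_inv (h : QC Q z ψ) {c : G} {M N : ℕ} (hc : Lin z ψ c M) (e : mm M N = i6) :
    Lin z ψ c⁻¹ N := by
  refine ⟨comm_inv_left hc.1, fun i hi => ?_⟩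
  have := h.lin_all hc ((col_lt N i).trans (by decide : 64 < 128))
  rw [← col_mm M N hi, e, col_i6 i hi] at this
  simpa [mul_assoc] using (this.conj (comm_inv_left hc.1)).symm h.zz

theorem lin_eq (h : QC Q z ψ) {c : G} {M k l : ℕ} (hc : Lin z ψ c M) (hk : k < 128) (hl : l < 64)
    (e : Eqv z (c * ψ k * c⁻¹) (ψ l)) : lin M k = l :=
  h.eq_of_eqv (lin_lt _ _) hl (((h.lin_all hc hk).symm h.zz).trans h.zz e)

theorem col_eq_of (h : QC Q z ψ) {c : G} {M i l : ℕ} (hc : Lin z ψ c M) (hi : i < 6) (hl : l < 64)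
    (e : Eqv z (c * ψ (2 ^ i) * c⁻¹) (ψ l)) : col M i = l :=
  h.eq_of_eqv (col_lt _ _) hl (((hc.2 i hi).symm h.zz).trans h.zz e)

theorem qc_of_E16 [Finite G] (lx : XS Q z) (hc : Nat.card Q = 128) {F : Subgroup G} (hF : F ≤ Q)
    (h2 : ∀ x ∈ F, x * x = 1) (h16 : 8 < Nat.card F) : ∃ ψ, QC Q z ψ := by
  refine exists_qc lx hc fun hr => ?_
  have k : ∀ x ∈ F, x⁻¹ = x := fun x hx => inv_eq_of_mul_eq_one_right (h2 x hx)
  have := hr (F.subgroupOf Q) ⟨⟨fun a b => Subtype.ext (Subtype.ext (by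
      have := k _ (mul_mem a.2 b.2)
      rw [mul_inv_rev, k _ a.2, k _ b.2] at this
      exact this.symm))⟩⟩
    fun a ha => Subtype.ext (by rw [sq]; exact h2 _ ha)
  rw [Nat.card_congr (subgroupOfEquivOfLe hF).toEquiv] at this
  omega

end Cfsg.Agent.X7
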