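import Cfsg.Agent.X7.Base
import Cfsg.Agent.U6R.Orth
import Cfsg.Agent.Class.Orth.Simple

/-! The action of `C_P(z)` on `Q / ⟨z⟩` by Eichler maps; the case `|Q ∩ P| = 8`. -/

set_option autoImplicit false

namespace Cfsg.Agent.X7

open Subgroup Cfsg.Agent.TT Cfsg.Agent.LES Cfsg.Agent.XSC Cfsg.Agent.XSC.WC Cfsg.Agent.XW
  Cfsg.Agent.U6R Cfsg.Agent.Class.Orth QuadraticMap Module

section LA

variable {V : Type} [AddCommGroup V] [Module (ZMod 2) V] {q : QuadraticForm (ZMod 2) V}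

theorem z2 (a : ZMod 2) : a = 0 ∨ a = 1 := by revert a; decide

theorem eich_two {u v : V} (hu : q u = 0) (hv : polar q u v = 0) (x : V) :
    (eichler q u v).1 x = x + (polar q x v + q v * polar q x u) • u + polar q x u • v := by
  rw [eichler_apply hu hv, two_sub, two_sub]

theorem mem_pair {a u v : V} : a ∈ Submodule.span (ZMod 2) {u, v} ↔
    a = 0 ∨ a = u ∨ a = v ∨ a = u + v := by
  rw [Submodule.mem_span_pair]
  constructor
  · rintro ⟨c, d, rfl⟩
    rcases z2 c with rfl | rfl <;> rcases z2 d with rfl | rfl <;> simp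
  · rintro (rfl | rfl | rfl | rfl)
    exacts [⟨0, 0, by simp⟩, ⟨1, 0, by simp⟩, ⟨0, 1, by simp⟩, ⟨1, 1, by simp⟩]

theorem eq_of_perp1 (hq : ND q) {x u : V} (h : ∀ v, polar q u v = 0 → polar q x v = 0) :
    x = 0 ∨ x = u := by
  by_contra n
  push Not at n
  obtain ⟨v, -, a, b⟩ := hq.ndon_top.exists_polar_eq_eq_zero (x := x) (y := u) trivial trivial
    (fun c e => by rcases z2 c with rfl | rfl <;> simp_all) 1
  exact zero_ne_one ((h v b).symm.trans a)

/-- five vectors do not span -/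
theorem exists_not_mem (h6 : finrank (ZMod 2) V = 6) (l m : List V) (hl : l.length + m.length ≤ 5)
    {U : Submodule (ZMod 2) V} (hU : ∀ v, ∃ u ∈ U, v + u ∈ Submodule.span (ZMod 2) {x | x ∈ m}) :
    ∃ u ∈ U, u ∉ Submodule.span (ZMod 2) {x | x ∈ l} := by
  classical
  by_contra n
  push Not at n
  have h1 : (⊤ : Submodule (ZMod 2) V) ≤ Submodule.span (ZMod 2) ((l ++ m).toFinset : Set V) := by
    intro v _
    obtain ⟨u, hu, k⟩ := hU v
    rw [← two_add_add' v u]
    exact add_mem (Submodule.span_mono (fun x hx => by simp_all) k)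
      (Submodule.span_mono (fun x hx => by simp_all) (n u hu))
  have := Module.finite_of_finrank_pos (R := ZMod 2) (M := V) (by omega)
  have h2 := (Submodule.finrank_mono h1).trans (finrank_span_finset_le_card _)
  have h3 := List.toFinset_card_le (l ++ m)
  rw [finrank_top] at h2
  rw [List.length_append] at h3
  omega

theorem ms {x : V} {l : List V} (h : x ∈ l) : x ∈ Submodule.span (ZMod 2) {x | x ∈ l} :=
  Submodule.subset_span h

theorem lt_cons [Module.Finite (ZMod 2) V] {x : V} {l : List V}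
    (h : x ∉ Submodule.span (ZMod 2) {x | x ∈ l}) : finrank (ZMod 2) (Submodule.span (ZMod 2) {x | x ∈ l}) <
      finrank (ZMod 2) (Submodule.span (ZMod 2) {y | y ∈ x :: l}) :=
  Submodule.finrank_lt_finrank_of_lt (lt_of_le_of_ne
    (Submodule.span_mono fun _ hx => List.mem_cons_of_mem _ hx) fun e => h (e ▸ ms (by simp)))

theorem iso_le [Module.Finite (ZMod 2) V] (hq : ND q) (l : List V)
    (h : ∀ x ∈ l, ∀ y ∈ l, polar q x y = 0) :
    2 * finrank (ZMod 2) (Submodule.span (ZMod 2) {x | x ∈ l}) ≤ finrank (ZMod 2) V := by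
  have h1 := LinearMap.BilinForm.finrank_orthogonal ((nd_iff q).1 hq)
    (Submodule.span (ZMod 2) {x | x ∈ l})
  have h2 : Submodule.span (ZMod 2) {x | x ∈ l} ≤ LinearMap.BilinForm.orthogonal (polarBilin q)
      (Submodule.span (ZMod 2) {x | x ∈ l}) := Submodule.span_le.2 fun x hx y hy =>
    (Submodule.span_le (p := LinearMap.ker ((polarBilin q).flip x))).2 (fun y hy => h y hy x hx) hy
  have h3 := Submodule.finrank_mono h2
  have h4 := Submodule.finrank_le (Submodule.span (ZMod 2) {x | x ∈ l})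
  omega

theorem exists_dual [Module.Finite (ZMod 2) V] (hq : ND q) {P : Submodule (ZMod 2) V} {a : V}
    (h : a ∉ P) : ∃ v, polar q v a ≠ 0 ∧ ∀ p ∈ P, polar q v p = 0 := by
  obtain ⟨f, h1, h2⟩ := Submodule.exists_le_ker_of_notMem h
  have k := fun x => LinearMap.BilinForm.apply_toDual_symm_apply (B := polarBilin q)
    (hB := (nd_iff q).1 hq) f x
  exact ⟨_, fun e => h1 ((k a).symm.trans e), fun p hp => (k p).trans (h2 hp)⟩

/-- the data at a point `T` with `E = ⟨T, e⟩` -/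
structure D1 (q : QuadraticForm (ZMod 2) V) (T e : V) (W : Submodule (ZMod 2) V) : Prop where
  qT : q T = 0
  T0 : T ≠ 0
  Te : polar q T e = 0
  TW : T ∈ W
  eW : e ∉ W
  perp : ∀ w ∈ W, polar q T w = 0
  sum : ∀ v, polar q T v = 0 → v ∈ W ∨ v + e ∈ W

namespace D1

variable {S T e f : V} {W U : Submodule (ZMod 2) V}

theorem span (hq : ND q) (h : D1 q T e W) :
    ∃ y, ∀ v, ∃ u ∈ W, v + u ∈ Submodule.span (ZMod 2) {x | x ∈ [e, y]} := by
  obtain ⟨y, hy⟩ := hq.exists_polar_eq h.T0 1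
  have k : ∀ v, polar q T v = 0 → ∃ u ∈ W, v + u ∈ Submodule.span (ZMod 2) {x | x ∈ [e, y]} :=
    fun v hv => (h.sum v hv).elim (fun m => ⟨v, m, by rw [two_add_self]; exact zero_mem _⟩)
      fun m => ⟨_, m, by rw [two_add_add]; exact ms (by simp)⟩
  refine ⟨y, fun v => (z2 (polar q T v)).elim (k v) fun hv => ?_⟩
  obtain ⟨u, hu, m⟩ := k (v + y) (by rw [polar_add_right, hv, hy]; rfl)
  exact ⟨u, hu, by rw [← two_add_add' (v + u) y, add_right_comm v u]; exact add_mem m (ms (by simp))⟩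

theorem singular (hq : ND q) (h6 : finrank (ZMod 2) V = 6) (h : D1 q T e W) :
    ∃ a ∈ W, q a = 0 ∧ a ≠ 0 ∧ a ≠ T := by
  by_contra n
  push Not at n
  have k : ∀ {l : List V} {a}, a ∈ W → a ∉ Submodule.span (ZMod 2) {x | x ∈ T :: l} → q a = 1 :=
    fun {l a} ha h1 => (z2 _).resolve_left fun e =>
      h1 (n a ha e (fun c => h1 (c ▸ zero_mem _)) ▸ ms (by simp))
  obtain ⟨y, hy⟩ := h.span hq
  obtain ⟨a, ha, na⟩ := exists_not_mem h6 [T] _ (by simp) hy
  obtain ⟨b, hb, nb⟩ := exists_not_mem h6 [T, a] _ (by simp) hy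
  obtain ⟨c, hc, nc⟩ := exists_not_mem h6 [T, a, b] _ (by simp) hy
  have m : ∀ {l : List V} {x y}, x ∉ Submodule.span (ZMod 2) {x | x ∈ l} → y ∈ l →
    x + y ∉ Submodule.span (ZMod 2) {x | x ∈ l} := fun n m c => n ((Submodule.add_mem_iff_left _ (ms m)).1 c)
  have k1 := k (add_mem hb ha) (m nb (by simp))
  have k2 := k (add_mem hc ha) (m nc (by simp))
  have k3 := k (add_mem hc hb) (m nc (by simp))
  have k4 := k (add_mem (add_mem hc ha) hb) (m (m nc (by simp)) (by simp))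
  rw [Q_add, k2, polar_add_left, polar_comm q a] at k4
  rw [Q_add] at k1 k3
  rw [k hb nb] at k1 k3 k4
  rw [k ha na] at k1
  rw [k hc nc] at k3
  revert k1 k3 k4
  generalize polar q c b = u, polar q b a = v
  revert u v; decide

theorem not_perp (hq : ND q) (h6 : finrank (ZMod 2) V = 6) (h : D1 q T e W) (k : D1 q S f U)
    (n : S ≠ T) (p : polar q S T = 0)
    (inv : ∀ a ∈ U, polar q T a = 0 → (∀ w ∈ W, (eichler q S a).1 w ∈ W) ∧
      ((eichler q S a).1 e = e ∨ (eichler q S a).1 e = e + T)) : False := by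
  obtain ⟨y, hy⟩ := k.span hq
  obtain ⟨w', hw'⟩ : ∃ w' ∈ U, ∀ u ∈ U, polar q T u = 0 ∨ polar q T (u + w') = 0 := by
    by_cases c : ∃ w ∈ U, polar q T w = 1
    · obtain ⟨w, hw, c⟩ := c
      exact ⟨w, hw, fun u _ => (z2 _).imp_right fun d => by rw [polar_add_right, c, d]; rfl⟩
    · exact ⟨0, zero_mem _, fun u hu => Or.inl ((z2 _).resolve_right fun d => c ⟨u, hu, d⟩)⟩
  obtain ⟨a, ⟨ha, haT⟩, na⟩ := exists_not_mem h6 [S, T] [w', f, y] (by simp)
    (U := U ⊓ LinearMap.ker (polarBilin q T)) fun v => by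
      obtain ⟨u, hu, m⟩ := hy v
      have m' : v + u ∈ Submodule.span (ZMod 2) {x | x ∈ [w', f, y]} :=
        Submodule.span_mono (fun x hx => List.mem_cons_of_mem _ hx) m
      rcases hw'.2 u hu with c | c
      exacts [⟨u, ⟨hu, c⟩, m'⟩, ⟨_, ⟨add_mem hu hw'.1, c⟩, by
        rw [← add_assoc]; exact add_mem m' (ms (by simp))⟩]
  change polar q T a = 0 at haT
  have mS : S ∈ Submodule.span (ZMod 2) {x | x ∈ [S, T]} := ms (by simp)
  have mT : T ∈ Submodule.span (ZMod 2) {x | x ∈ [S, T]} := ms (by simp)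
  obtain ⟨i1, i2⟩ := inv a ha haT
  simp only [eich_two k.qT (k.perp a ha), add_assoc, add_eq_left, add_right_inj] at i1 i2
  have eS : polar q e S = 0 := (z2 _).resolve_right fun c => na (by
    rw [c, one_smul] at i2
    refine (Submodule.add_mem_iff_right _ (Submodule.smul_mem _ (polar q e a + q a * 1) mS)).1 ?_
    rcases i2 with d | d <;> rw [d]
    exacts [zero_mem _, mT])
  have ea : polar q e a = 0 := (z2 _).resolve_right fun c => by
    simp [eS, c, k.T0, n] at i2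
  have pS : ¬ ∀ w ∈ W, polar q w S = 0 := fun c => by
    rcases eq_of_perp1 hq (x := S) (u := T) (fun v hv => (h.sum v hv).elim
      (fun m => by rw [polar_comm, c v m]) fun m => by
        have := c _ m
        rwa [polar_add_left, eS, add_zero, polar_comm] at this) with d | d
    exacts [k.T0 d, n d]
  push Not at pS
  obtain ⟨w, hw, c⟩ := pS
  have := Module.finite_of_finrank_pos (R := ZMod 2) (M := V) (by omega)
  by_cases hS : S ∈ W
  · have aW : a ∈ W := by
      have := i1 w hw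
      rwa [z2_ne.1 c, one_smul, W.add_mem_iff_right hw, W.add_mem_iff_right (W.smul_mem _ hS)] at this
    have l1 := lt_cons (l := []) (x := T) (by simpa using h.T0)
    have l2 := lt_cons (l := [T]) (x := S) fun m => by
      obtain ⟨c, e⟩ := Submodule.mem_span_singleton.1 (by simpa using m)
      rcases z2 c with rfl | rfl
      exacts [k.T0 (by simpa using e.symm), n (by simpa using e.symm)]
    have l3 := lt_cons na
    have l4 := lt_cons (l := [a, S, T]) (x := e) fun m => h.eW (Submodule.span_le.2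
      (fun x hx => by simp only [List.mem_cons, List.not_mem_nil, or_false, Set.mem_setOf_eq] at hx
                      rcases hx with rfl | rfl | rfl
                      exacts [aW, hS, h.TW]) m)
    have l5 := iso_le hq [e, a, S, T] (by
      have s := fun x y (c : polar q x y = 0) => (polar_comm q y x).trans c
      simp [-polar_self, polar_two_self, ea, eS, h.Te, haT, k.perp a ha, p, s _ _ ea, s _ _ eS, s _ _ h.Te,
        s _ _ haT, s _ _ (k.perp a ha), s _ _ p])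
    omega
  · obtain ⟨v, h1, h2⟩ := exists_dual hq na
    have vS := h2 S mS
    have key : ∀ w ∈ W, polar q w S = 0 → polar q w a = 0 := fun w hw d =>
      (z2 _).resolve_right fun c => hS (by simpa [d, c, W.add_mem_iff_right hw] using i1 w hw)
    rcases h.sum v (by rw [polar_comm, h2 T mT]) with m | m
    · exact h1 (key v m vS)
    · have := key _ m (by rw [polar_add_left, vS, eS, add_zero])
      rw [polar_add_left, ea, add_zero] at this
      exact h1 this

end D1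

end LA

variable {G : Type*} [Group G] {z t s : G}

/-- every non-central element of `Q` fails to commute with one of its `C(z)`-conjugates -/
def Irr (z : G) : Prop := ∀ v ∈ O2C z, ¬ Eqv z v 1 →
  ∃ c, c * z = z * c ∧ c * v * c⁻¹ * v ≠ v * (c * v * c⁻¹)

theorem irr_of (h : XH z) (hi : ∀ A : Subgroup G, z ∈ A → A ≤ O2C z →
    (∀ c, c * z = z * c → ∀ a ∈ A, c * a * c⁻¹ ∈ A) → A = zpowers z ∨ A = O2C z) : Irr z := by
  intro v hv n
  by_contra k
  push Not at k
  rcases hi (O2C z ⊓ centralizer {x | ∃ c, c * z = z * c ∧ c * v * c⁻¹ = x})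
    ⟨h.xs.z_mem, by rintro _ ⟨c, hc, rfl⟩; exact h.xs.z_comm _ (h.lx.norm c hc v hv)⟩ inf_le_left
    (fun c hc a ha => ⟨h.lx.norm c hc a ha.1, by
      rintro _ ⟨d, hd, rfl⟩
      have := (comm_conj_iff c _ _).2 (ha.2 _ ⟨c⁻¹ * d, comm_mul_left (comm_inv_left hc) hd, rfl⟩)
      rwa [show c * (c⁻¹ * d * v * (c⁻¹ * d)⁻¹) * c⁻¹ = d * v * d⁻¹ by group] at this⟩) with e | e
  · exact n ((eqv_one_iff_mem h.zz).2 (e.le ⟨hv, by rintro _ ⟨c, hc, rfl⟩; exact k c hc⟩))
  · exact n (eqv_one_iff.2 (h.xs.cent v hv fun y hy => by simpa using (e.ge hy).2 _ ⟨1, by simp, rfl⟩))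

/-- `Q ∩ P = ⟨z, t, e⟩` -/
def E1 (z t e : G) : Prop := e ∈ O2C z ∧ e ∈ O2C t ∧ ¬ InV z t e ∧
  ∀ x ∈ O2C z, x ∈ O2C t → InV z t x ∨ InV z t (x * e)

theorem inV_conj {c x : G} (hc : c * z = z * c) : InV z (c * t * c⁻¹) (c * x * c⁻¹) ↔ InV z t x := by
  conv_lhs => rw [← conj_eq_of_comm hc]
  simp only [InV, conj_mul, mul_left_inj, mul_right_inj, conj_eq_one_iff]

theorem mem_O2C_cj {c x : G} (hc : c * z = z * c) : c * x * c⁻¹ ∈ O2C z ↔ x ∈ O2C z := by
  conv_lhs => rw [← conj_eq_of_comm hc, mem_O2C_conj]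
  simp [mul_assoc]

theorem E1.cj {e c : G} (h : E1 z t e) (hc : c * z = z * c) : E1 z (c * t * c⁻¹) (c * e * c⁻¹) :=
  ⟨(mem_O2C_cj hc).2 h.1, conj_mem_O2C_conj c h.2.1, fun k => h.2.2.1 ((inV_conj hc).1 k),
    fun x h1 h2 => by
      obtain ⟨y, rfl⟩ : ∃ y, x = c * y * c⁻¹ := ⟨c⁻¹ * x * c, by group⟩
      rw [conj_mul, inV_conj hc, inV_conj hc]
      exact h.2.2.2 y ((mem_O2C_cj hc).1 h1) (by rw [mem_O2C_conj] at h2; simpa [mul_assoc] using h2)⟩

namespace FP

variable [Finite G] (h : FP z t)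
include h

theorem E_eqv {x : G} (e : Eqv z s t) (h1 : x ∈ O2C z) (h2 : x ∈ O2C t) : x ∈ O2C s := by
  obtain ⟨p, hp, rfl⟩ := exists_conj_of_eqv h.xs h.mem h.t_ne h.ne e
  have := conj_mem_O2C_conj p (h.E_conj h1 h2 (inv_mem hp))
  simpa [mul_assoc] using this

variable {V : Type} [AddCommGroup V] [Module (ZMod 2) V] {q : QuadraticForm (ZMod 2) V}
  {π : G → V} {r : centralizer ({z} : Set G) →* OG q} (o : OS z (O2C z) q π r)
include o

theorem qT : q (π t) = 0 := (o.sq t h.mem).1 h.tt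

theorem T0 : π t ≠ 0 := fun e => ((o.ker t h.mem).1 e).elim h.t_ne h.ne

theorem pi_inV {x : G} (hx : x ∈ O2C z) : InV z t x ↔ π x = 0 ∨ π x = π t :=
  ⟨fun e => (h.inV_eqv e).imp (fun e => (o.pi_eqv (one_mem _) e).trans o.pi_one) (o.pi_eqv h.mem),
    fun e => by
      rcases e with e | e
      · exact ((o.ker x hx).1 e).imp_right Or.inl
      · exact Or.inr (Or.inr ((o.eqv_of_pi hx h.mem e).imp_right fun e => e.trans h.tz))⟩

theorem pol_one {y : G} (hy : y ∈ O2C z) (n : y * t ≠ t * y) : polar q (π y) (π t) = 1 :=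
  z2_ne.1 fun e => n ((o.comm y hy t h.mem).2 e)

theorem pol_dd {c y : G} (hc : c ∈ O2C t) (hz : c * z = z * c) (hy : y ∈ O2C z) :
    polar q (π t) (π (dd c y)) = 0 :=
  (o.comm t h.mem _ (dd_mem h.lx hz hy)).1 (h.dd_t hc hz hy).symm

theorem eich {c : centralizer ({z} : Set G)} (hc : c.1 ∈ O2C t) {y : G} (hy : y ∈ O2C z)
    (n : y * t ≠ t * y) : r c = eichler q (π t) (π (dd c y)) := by
  have hz := mem_c.1 c.2
  have a0 := h.pol_dd o hc hz hy
  have y1 := h.pol_one o hy n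
  have act : ∀ x ∈ O2C z, (r c).1 (π x) = π x + π (dd c x) := fun x hx => by
    rw [dd, o.pi_comm c hx, add_comm, two_add_add']
  have k1 : ∀ x ∈ O2C z, x * t = t * x →
      (r c).1 (π x) = (eichler q (π t) (π (dd c y))).1 (π x) := fun x hx e => by
    have x0 := (o.comm x hx t h.mem).1 e
    have := OG.map_polar (r c) (π x) (π y)
    rw [eichler_apply_of_perp (h.qT o) a0 x0, act x hx]
    rw [act x hx, act y hy] at this
    rcases (h.pi_inV o (dd_mem h.lx hz hx)).1 (h.L1 hc hz hx e) with d | d <;> rw [d] at this ⊢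
    · rw [add_zero, polar_add_right, add_eq_left] at this
      rw [this, zero_smul]
    · rw [polar_add_left, polar_add_right, polar_add_right, a0, polar_comm q (π t), y1, add_zero,
        add_assoc, add_eq_left] at this
      rw [two_eq_of_add this, one_smul]
  have k2 : (r c).1 (π y) = (eichler q (π t) (π (dd c y))).1 (π y) := by
    have := OG.map_Q (r c) (π y)
    rw [act y hy, Q_add, add_assoc, add_eq_left] at this
    rw [act y hy, eich_two (h.qT o) a0, y1, mul_one, add_comm (polar _ _ _), this, zero_smul,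
      one_smul, add_zero]
  refine OG.ext fun v => ?_
  obtain ⟨x, hx, rfl⟩ := o.surj v
  by_cases e : x * t = t * x
  · exact k1 x hx e
  · have := k1 _ (mul_mem hx hy) (h.xs.mul_comm_of_not_comm h.mem hx hy e n)
    rwa [o.add x hx y hy, map_add, map_add, k2, add_left_inj] at this

/-- the vectors whose Eichler maps are induced by `C_P(z)` -/
def WS : Submodule (ZMod 2) V := AddSubgroup.toZModSubmodule 2
  { carrier := {a | polar q (π t) a = 0 ∧ ∃ c : centralizer ({z} : Set G), c.1 ∈ O2C t ∧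
      r c = eichler q (π t) a}
    zero_mem' := ⟨polar_zero_right _ _, 1, one_mem _, by rw [map_one, eichler_zero]⟩
    add_mem' := fun ⟨a, c, hc, e⟩ ⟨b, d, hd, f⟩ => ⟨by rw [polar_add_right, a, b, add_zero], c * d,
      mul_mem hc hd, by rw [map_mul, e, f, eichler_add (h.qT o) a b]⟩
    neg_mem' := fun {a} ha => by rwa [neg_eq_of_add_eq_zero_left (two_add_self a)] }

theorem mem_WS {a : V} : a ∈ h.WS o ↔ polar q (π t) a = 0 ∧ ∃ c : centralizer ({z} : Set G),
    c.1 ∈ O2C t ∧ r c = eichler q (π t) a := Iff.rfl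

theorem T_WS : π t ∈ h.WS o := ⟨polar_two_self _ _, 1, one_mem _, by
  rw [map_one, ← eichler_self_smul (h.qT o) 1, one_smul]⟩

theorem sum_WS {v : V} (hv : polar q (π t) v = 0) :
    ∃ e ∈ O2C z, e ∈ O2C t ∧ v + π e ∈ h.WS o := by
  obtain ⟨x, hx, rfl⟩ := o.surj v
  obtain ⟨y, hy, n⟩ := h.exists_y
  obtain ⟨c, hc, hz, e⟩ := h.link_surj hy n hx ((o.comm t h.mem x hx).2 hv).symm
  have m := dd_mem h.lx hz hy
  refine ⟨_, mul_mem m hx, e, ?_⟩
  rw [o.add _ m _ hx, add_comm, two_add_add']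
  exact ⟨h.pol_dd o hc hz hy, ⟨c, mem_c.2 hz⟩, hc, h.eich o hc hy n⟩

theorem inV_of_WS {e : G} (h1 : e ∈ O2C z) (h2 : e ∈ O2C t) (m : π e ∈ h.WS o) : InV z t e := by
  obtain ⟨a0, c, hc, k⟩ := m
  obtain ⟨y, hy, n⟩ := h.exists_y
  have hz := mem_c.1 c.2
  have m := dd_mem h.lx hz hy
  have y1 := h.pol_one o hy n
  have k1 : π (dd c y) = _ := o.pi_comm c hy
  rw [k, eich_two (h.qT o) a0, y1, one_smul, add_comm, add_assoc, two_add_add] at k1
  have k2 : InV z t (dd c.1 y * e) := (h.pi_inV o (mul_mem m h1)).2 (by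
    rw [o.add _ m _ h1, k1, two_add_add']
    rcases z2 (polar q (π y) (π e) + q (π e) * 1) with d | d <;> rw [d] <;> simp)
  have k3 := dd_of_mem h.lx (h.link_inj hy n hc
    ((mul_mem_cancel_right h2).1 (h.inV_E k2).2)) hy
  rwa [h.pi_inV o (mul_mem m h1), o.add _ m _ h1, o.pi_eqv (one_mem _) k3, o.pi_one, zero_add,
    ← h.pi_inV o h1] at k2

theorem WS_map (k : FP z s) (g : centralizer ({z} : Set G)) (e : (r g).1 (π t) = π s) {a : V}
    (ha : a ∈ h.WS o) : (r g).1 a ∈ k.WS o := by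
  obtain ⟨a0, c, hc, m⟩ := ha
  have h' := h.cj (mem_c.1 g.2)
  obtain ⟨p, hp, rfl⟩ := exists_conj_of_eqv h.xs h'.mem h'.t_ne h'.ne
    (o.eqv_of_pi k.mem h'.mem (e.symm.trans (o.act g t h.mem).symm))
  let p' : centralizer ({z} : Set G) := ⟨p, mem_c.2 (h.xs.z_comm p hp)⟩
  refine ⟨by rw [← e, OG.map_polar, a0], p' * (g * c * g⁻¹) * p'⁻¹,
    conj_mem_O2C_conj p (conj_mem_O2C_conj g.1 hc), ?_⟩
  simp only [map_mul, map_inv]
  rw [(o.r_eq_one_iff p').2 hp, m, conj_eichler, e, one_mul, inv_one, mul_one]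

theorem E_map (k : FP z s) (g : centralizer ({z} : Set G)) (e : (r g).1 (π t) = π s) {x : G}
    (h1 : x ∈ O2C z) (h2 : x ∈ O2C t) : g * x * g.1⁻¹ ∈ O2C s :=
  (h.cj (mem_c.1 g.2)).E_eqv (o.eqv_of_pi k.mem (h.cj (mem_c.1 g.2)).mem
    (e.symm.trans (o.act g t h.mem).symm)) (h.lx.norm _ (mem_c.1 g.2) x h1) (conj_mem_O2C_conj _ h2)

theorem finrank_six : finrank (ZMod 2) V = 6 := by
  have h1 := o.card_V
  rw [h.xh.card] at h1
  have : Finite V := Nat.finite_of_card_ne_zero (by omega)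
  have h2 := Module.natCard_eq_pow_finrank (K := ZMod 2) (V := V)
  rw [Nat.card_zmod] at h2
  exact Nat.pow_right_injective le_rfl (h2.symm.trans (by omega : _ = 2 ^ 6))

theorem d1 {e : G} (he : E1 z t e) : D1 q (π t) (π e) (h.WS o) := by
  refine ⟨h.qT o, h.T0 o, (o.comm t h.mem e he.1).1 (h.ht.xs.z_comm e he.2.1).symm, h.T_WS o,
    fun m => he.2.2.1 (h.inV_of_WS o he.1 he.2.1 m), fun w hw => hw.1, fun v hv => ?_⟩
  obtain ⟨x, h1, h2, m⟩ := h.sum_WS o hv
  have k : ∀ {u}, u = 0 ∨ u = π t → u ∈ h.WS o := fun e => e.elim (· ▸ zero_mem _) (· ▸ h.T_WS o)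
  refine (he.2.2.2 x h1 h2).imp (fun c => ?_) fun c => ?_
  · exact (Submodule.add_mem_iff_left _ (k ((h.pi_inV o h1).1 c))).1 m
  · have := add_mem m (k ((h.pi_inV o (mul_mem h1 he.1)).1 c))
    rwa [o.add _ h1 _ he.1, add_assoc, two_add_add] at this

theorem not_E1' {e c : G} (he : E1 z t e) (hc : c * z = z * c)
    (n : c * t * c⁻¹ * t ≠ t * (c * t * c⁻¹)) : False := by
  have h' := h.cj hc
  have he' := he.cj hc
  have y1 := h.pol_one o h'.mem n
  obtain ⟨a, ⟨a0, c1, -, k1⟩, qa, a1, a2⟩ : ∃ a ∈ h.WS o, q a = 0 ∧ a ≠ 0 ∧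
      polar q (π (c * t * c⁻¹)) a = 0 := by
    obtain ⟨a, ha, qa, a1, a2⟩ := (h.d1 o he).singular o.nd (h.finrank_six o)
    rcases z2 (polar q (π (c * t * c⁻¹)) a) with d | d
    · exact ⟨a, ha, qa, a1, d⟩
    · exact ⟨_, add_mem ha (h.T_WS o), by rw [Q_add, qa, h.qT o, polar_comm, ha.1]; rfl,
        fun e => a2 (two_eq_of_add e), by rw [polar_add_right, d, y1]; rfl⟩
  have h2 := h'.cj (mem_c.1 c1.2)
  have e2 : π (c1 * (c * t * c⁻¹) * c1.1⁻¹) = π (c * t * c⁻¹) + a := by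
    rw [o.act c1 _ h'.mem, k1, eich_two (h.qT o) a0, a2, qa, y1]; simp
  refine (h'.d1 o he').not_perp o.nd (h.finrank_six o) (h2.d1 o (he'.cj (mem_c.1 c1.2)))
    (by rw [e2]; simpa using a1) (by rw [e2, polar_add_left, polar_two_self, polar_comm, a2]; rfl)
    fun b ⟨_, g, _, kb⟩ b0 => ?_
  have fx : (r g).1 (π (c * t * c⁻¹)) = π (c * t * c⁻¹) := by
    rw [kb, eichler_apply_of_perp_perp (by rw [e2, polar_add_right, polar_two_self, a2]; rfl) b0]
  rw [← kb]
  refine ⟨fun w hw => h'.WS_map o h' g fx hw, ?_⟩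
  have m := h.lx.norm g (mem_c.1 g.2) _ he'.1
  rcases he'.2.2.2 _ m (h'.E_map o h' g fx he'.1 he'.2.1) with d | d
  · rw [h'.pi_inV o m, o.act g _ he'.1, ← fx, (r g).1.injective.eq_iff, map_eq_zero_iff _
      (r g).1.injective, ← h'.pi_inV o he'.1] at d
    exact absurd d he'.2.2.1
  · rw [h'.pi_inV o (mul_mem m he'.1), o.add _ m _ he'.1, o.act g _ he'.1] at d
    exact d.imp two_eq_of_add fun d => by rw [← d, add_comm ((r g).1 _), two_add_add]

theorem comm_le {c : G} (h0 : ∀ x ∈ O2C z, x ∈ O2C t → InV z t x) (hc : c * z = z * c)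
    (n : c * t * c⁻¹ * t ≠ t * (c * t * c⁻¹)) : commutator (OG q) ≤ r.range := by
  have h' := h.cj hc
  have h6 := h.finrank_six o
  have := Module.finite_of_finrank_pos (R := ZMod 2) (M := V) (by omega)
  have k : ∀ v, polar q (π t) v = 0 → v ∈ h.WS o := fun v hv => by
    obtain ⟨x, h1, h2, m⟩ := h.sum_WS o hv
    refine (Submodule.add_mem_iff_left _ ?_).1 m
    exact ((h.pi_inV o h1).1 (h0 x h1 h2)).elim (· ▸ zero_mem _) (· ▸ h.T_WS o)
  rw [o.nd.commutator_eq_EG_of_five_le (by omega)]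
  refine o.nd.EG_le_of_isHyp ⟨h'.qT o, h.qT o, h.pol_one o h'.mem n⟩ (by omega) _
    (fun v hv => ?_) fun v hv => ?_
  · have e := o.act ⟨c, mem_c.2 hc⟩ t h.mem
    obtain ⟨-, g, -, m⟩ := h.WS_map o h' ⟨c, mem_c.2 hc⟩ e.symm (k ((r ⟨c, mem_c.2 hc⟩)⁻¹.1 v)
      (by rw [← OG.polar_apply_left, ← e]; exact (mem_perp2.1 hv).1))
    exact ⟨g, by simpa using m⟩
  · obtain ⟨-, g, -, m⟩ := k v (mem_perp2.1 hv).2
    exact ⟨g, m⟩

omit o in
theorem not_E1 {e c : G} (he : E1 z t e) (hc : c * z = z * c)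
    (n : c * t * c⁻¹ * t ≠ t * (c * t * c⁻¹)) : False := by
  obtain ⟨V, _, _, q, π, r, o⟩ := exists_OS h.lx (n := 3) h.xh.card
  exact h.not_E1' o he hc n

end FP

end Cfsg.Agent.X7
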