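import Cfsg.Agent.X7.TwoC
import Cfsg.Agent.X7.Lin

/-! The case `|Q ∩ P| = 16`: reduction to `L₃(2) . 2`. -/

set_option autoImplicit false

namespace Cfsg.Agent.X7

open Subgroup Cfsg.Agent.TT Cfsg.Agent.LES Cfsg.Agent.XSC Cfsg.Agent.XSC.WC Cfsg.Agent.XW
  Cfsg.Agent.He5 Cfsg.Agent.Comp

variable {G : Type*} [Group G] {Q : Subgroup G} {z t c d r : G} {ψ : ℕ → G} {M N e f a b : ℕ}

theorem lin_left (h : QC Q z ψ) (lx : XS Q z) {p : G} (hp : p ∈ Q) (hd : Lin z ψ d N) :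
    Lin z ψ (p * d) N := by
  refine ⟨comm_mul_left (lx.z_comm p hp) hd.1, fun i hi => ?_⟩
  rw [show p * d * ψ (2 ^ i) * (p * d)⁻¹ = p * (d * ψ (2 ^ i) * d⁻¹) * p⁻¹ by group]
  exact (eqv_conj lx hp ((hd.2 i hi).mem lx.z_mem (qc_mem h ((col_lt _ _).trans (by decide))))).trans
    h.zz (hd.2 i hi)

theorem dd_code (h : QC Q z ψ) (lx : XS Q z) (hd : Lin z ψ d N) {k : ℕ} (hk : k < 128) :
    Eqv z (dd d (ψ k)) (ψ (lin N k ^^^ k)) :=
  h.eqv_mul ((lin_lt _ _).trans (by decide)) hk (h.lin_all hd hk) (eqv_inv lx (qc_mem h hk))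

theorem lin_four (h : QC Q z ψ) {x y u v : G} {A B C D : ℕ} (h1 : Lin z ψ x A) (h2 : Lin z ψ y B)
    (h3 : Lin z ψ u C) (h4 : Lin z ψ v D) (W : List ℕ) :
    Lin z ψ (BN.ev (fun k => [x, y, u, v].getD k 1) W) (evM [A, B, C, D] W) :=
  h.lin_ev (by
    rintro (_ | _ | _ | _ | k)
    exacts [h1, h2, h3, h4, h.lin_of_mem Q.one_mem]) W

theorem evM_lt (l W : List ℕ) : evM l W < 2 ^ 36 := by
  cases W
  exacts [show i6 < _ by decide, mm_lt _ _]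

/-- the Eichler map with vector `a` is induced by `C_P(z)` -/
def Wc (z t : G) (ψ : ℕ → G) (a : ℕ) : Prop := ∃ r ∈ O2C t, Lin z ψ r (ei a)

/-- a frame adapted to `t` and a conjugate not commuting with it -/
structure C2 (z t c : G) (ψ : ℕ → G) (e f a b : ℕ) : Prop where
  fp : FP z t
  qc : QC (O2C z) z ψ
  one : ψ 1 = t
  m1 : ψ e ∈ O2C t
  m2 : ψ f ∈ O2C t
  w1 : Wc z t ψ a
  w2 : Wc z t ψ b
  hc : c * z = z * c
  c8 : Eqv z (c * t * c⁻¹) (ψ 8)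

theorem ei_chk : ∀ a < 64, a &&& 9 = 0 → ei a < 2 ^ 36 ∧ (ei a = i6 → a = 0) ∧
    (lin (ei a) 8 ^^^ 8 = a ∨ lin (ei a) 8 ^^^ 8 = a ^^^ 1) ∧
      ∀ b < 64, b &&& 9 = 0 → mm (ei a) (ei b) = ei (a ^^^ b) := by decide +kernel

variable [Finite G]

section

variable (h : FP z t) (q : QC (O2C z) z ψ) (one : ψ 1 = t)
include h q one

theorem lin_R (hr : r ∈ O2C t) (hz : r * z = z * r) : ∃ a < 64, a &&& 9 = 0 ∧ Lin z ψ r (ei a) := by
  obtain ⟨M, a1, a2, a3⟩ := q.exists_lin h.lx passE hz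
  have k0 : col M 0 = 1 := col_eq_of q a2 (by decide) (by decide)
    (Or.inl (by rw [pow_zero, one]; exact conj_eq_of_comm (h.ht.xs.z_comm r hr)))
  have k : ∀ i ∈ [1, 2, 4, 5], col M i ||| 1 = 2 ^ i ||| 1 := fun i hi => by
    have t1 : ∀ i ∈ [1, 2, 4, 5], i < 6 ∧ 2 ^ i < 64 ∧ 2 ^ i ^^^ 1 < 64 ∧ mq (2 ^ i) 1 = mq 1 (2 ^ i) ∧
      (2 ^ i ^^^ 1) ||| 1 = 2 ^ i ||| 1 := by decide +kernel
    obtain ⟨b1, b2, b3, b4, b5⟩ := t1 i hi
    have m := qc_mem q (two_pow_lt b1)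
    rcases h.inV_eqv (h.L1 hr hz m (one ▸ (qc_comm q (two_pow_lt b1) (by decide)).2 b4)) with e | e
    · rw [col_eq_of q a2 b1 b2 (by simpa [dd_mul_self] using e.mul_right (h.xs.z_comm _ m))]
    · rw [col_eq_of q a2 b1 b3 (dd_mul_self r _ ▸ Nat.xor_comm _ _ ▸ q.eqv_mul (by decide)
        (two_pow_lt b1) (one ▸ e) (Eqv.refl _ _)), b5]
  simp only [or'_eq_true, not'_eq_true, and'_eq_true, beq_iff, allL_iff] at a3
  have t2 : ∀ x < 64, x &&& 54 < 64 ∧ x &&& 54 &&& 9 = 0 := by decide +kernel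
  exact ⟨_, (t2 _ (col_lt M 3)).1, (t2 _ (col_lt M 3)).2, a3.resolve_left (not_not.2 ⟨k0, k⟩) ▸ a2⟩

omit h one in
theorem Wc.mul (ha : a < 64) (a9 : a &&& 9 = 0) (hb : b < 64) (b9 : b &&& 9 = 0) (h1 : Wc z t ψ a)
    (h2 : Wc z t ψ b) : Wc z t ψ (a ^^^ b) := by
  obtain ⟨r, r1, r2⟩ := h1
  obtain ⟨s, s1, s2⟩ := h2
  exact ⟨r * s, mul_mem r1 s1, (ei_chk a ha a9).2.2.2 b hb b9 ▸ q.lin_mul r2 s2⟩

theorem mem_xor {k l : ℕ} (hk : k < 128) (hl : l < 128) (h1 : ψ k ∈ O2C t) (h2 : ψ l ∈ O2C t) :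
    ψ (k ^^^ l) ∈ O2C t :=
  ((q.eqv_mul hk hl (Eqv.refl _ _) (Eqv.refl _ _)).symm h.zz).mem h.z_mem (mul_mem h1 h2)

theorem n8 : ψ 8 * t ≠ t * ψ 8 := one ▸ mt (qc_comm q (by decide) (by decide)).1 (by decide +kernel)

theorem Wc.eq_zero (ha : a < 64) (a9 : a &&& 9 = 0) (h1 : Wc z t ψ a) (m : ψ a ∈ O2C t) : a = 0 := by
  obtain ⟨r, r1, r2⟩ := h1
  obtain ⟨k1, k2, k3, -⟩ := ei_chk a ha a9
  refine k2 (q.lin_unique r2 (q.lin_of_mem (h.link_inj (qc_mem q (by decide)) (n8 h q one) r1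
    ((dd_code q h.xs r2 (by decide)).mem h.z_mem ?_))) k1 (by decide))
  rcases k3 with e | e <;> rw [e]
  exacts [m, mem_xor h q one (by omega) (by decide) m (one ▸ (one ▸ h).ht.xs.z_mem)]

theorem exists_Wc (hF : ∀ k < 128, ψ k ∈ O2C z ⊓ O2C t ↔ k % 64 < 8) {s : ℕ} (hs : s = 16 ∨ s = 32) :
    ∃ f ∈ [0, 2, 4, 6], Wc z t ψ (s ^^^ f) := by
  have s1 : s < 128 := by omega
  obtain ⟨r, r1, r2, r3⟩ := h.link_surj (qc_mem q (by decide)) (n8 h q one) (qc_mem q s1)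
    (one ▸ (qc_comm q s1 (by decide)).2 (by rcases hs with rfl | rfl <;> decide +kernel))
  obtain ⟨a, a1, a2, a3⟩ := lin_R h q one r1 r2
  have x1 : lin (ei a) 8 ^^^ 8 < 2 ^ 7 := Nat.xor_lt_two_pow ((lin_lt _ _).trans (by decide)) (by decide)
  have x2 := Nat.xor_lt_two_pow x1 (show s < 2 ^ 7 from s1)
  have := (hF _ x2).1 ⟨qc_mem q x2, ((q.eqv_mul x1 s1 (dd_code q h.xs a3 (by decide))
    (Eqv.refl _ _)).symm h.zz).mem h.z_mem r3⟩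
  have k : ∀ a < 64, a &&& 9 = 0 → ∀ s ∈ [16, 32], (lin (ei a) 8 ^^^ 8 ^^^ s) % 64 < 8 →
      ∃ f ∈ [0, 2, 4, 6], s ^^^ f = a := by decide +kernel
  obtain ⟨f, f1, rfl⟩ := k a a1 a2 s (by simpa using hs) this
  exact ⟨f, f1, r, r1, a3⟩

end

/-- the parameters describe complementary subspaces -/
def Ok (e f a b : ℕ) : Prop := e < 64 ∧ f < 64 ∧ a < 64 ∧ b < 64 ∧ a &&& 9 = 0 ∧ b &&& 9 = 0 ∧
  ∀ x < 64, x &&& 9 = 0 → ∃ w ∈ [a, b, a ^^^ b, 0], x ^^^ w ∈ [e, f, e ^^^ f, 0]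

instance : Decidable (Ok e f a b) := by unfold Ok; infer_instance

namespace C2

variable (h : C2 z t c ψ e f a b)
include h

theorem wc (ok : Ok e f a b) {w : ℕ} (hw : w ∈ [a, b, a ^^^ b, 0]) :
    w < 64 ∧ w &&& 9 = 0 ∧ Wc z t ψ w := by
  obtain ⟨-, -, o3, o4, o5, o6, -⟩ := ok
  simp only [List.mem_cons, List.not_mem_nil, or_false] at hw
  rcases hw with rfl | rfl | rfl | rfl
  exacts [⟨o3, o5, h.w1⟩, ⟨o4, o6, h.w2⟩, ⟨Nat.xor_lt_two_pow (n := 6) o3 o4,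
    by rw [Nat.and_xor_distrib_right, o5, o6]; rfl, h.w1.mul h.qc o3 o5 o4 o6 h.w2⟩,
    ⟨by decide, rfl, 1, one_mem _, h.qc.lin_of_mem (one_mem _)⟩]

theorem me (ok : Ok e f a b) {w : ℕ} (hw : w ∈ [e, f, e ^^^ f, 0]) : ψ w ∈ O2C t := by
  simp only [List.mem_cons, List.not_mem_nil, or_false] at hw
  rcases hw with rfl | rfl | rfl | rfl
  exacts [h.m1, h.m2, mem_xor h.fp h.qc h.one (by have := ok.1; omega) (by have := ok.2.1; omega)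
    h.m1 h.m2, h.qc.mul.zero ▸ one_mem _]

theorem st_true (ok : Ok e f a b) (hd : Lin z ψ d N) : st e f (ei a) (ei b) N = true := by
  simp only [st, or'_eq_true, not'_eq_true, beq_iff, and'_eq_true, force_eq, allL_iff, anyL_iff, cmB]
  refine or_iff_not_imp_left.2 fun n => ?_
  have k := h.fp
  have q := h.qc
  have e1 : Eqv z (d * t * d⁻¹) t := by
    simpa only [pow_zero, not_not.1 n, h.one] using hd.2 0 (by decide)
  obtain ⟨d, hd, e1⟩ : ∃ d, Lin z ψ d N ∧ d * t * d⁻¹ = t := by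
    have k' := k.cj hd.1
    obtain ⟨p, hp, e2⟩ := exists_conj_of_eqv k.xs k'.mem k'.t_ne k'.ne (e1.symm k.zz)
    exact ⟨p * d, lin_left q k.xs hp hd, Eq.trans (by group) e2⟩
  have cj : ∀ x ∈ O2C t, d * x * d⁻¹ ∈ O2C t := fun x hx => e1 ▸ conj_mem_O2C_conj d hx
  have a1 : ∀ {x y}, x < 64 → y < 64 → ψ x ∈ O2C t → ψ y ∈ O2C t → mq (lin N x) y = mq y (lin N x) :=
    fun {x y} hx hy m1 m2 => (qc_comm q ((lin_lt _ _).trans (by decide)) (by omega)).1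
      (k.E_comm (qc_mem q ((lin_lt _ _).trans (by decide)))
        (((q.lin_all hd (by omega)).symm k.zz).mem k.z_mem (cj _ m1)) (qc_mem q (by omega)) m2)
  refine ⟨⟨a1 ok.1 ok.1 h.m1 h.m1, a1 ok.1 ok.2.1 h.m1 h.m2⟩,
    ⟨a1 ok.2.1 ok.1 h.m2 h.m1, a1 ok.2.1 ok.2.1 h.m2 h.m2⟩, fun X hX => ?_⟩
  obtain ⟨r, r1, r2⟩ : ∃ r ∈ O2C t, Lin z ψ r X := by
    simp only [List.mem_cons, List.not_mem_nil, or_false] at hX
    rcases hX with rfl | rfl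
    exacts [h.w1, h.w2]
  obtain ⟨x, x1, x2, x3⟩ := lin_R k q h.one (cj r r1)
    (comm_mul_left (comm_mul_left hd.1 r2.1) (comm_inv_left hd.1))
  obtain ⟨w, w1, w2⟩ := ok.2.2.2.2.2.2 x x1 x2
  obtain ⟨w3, w4, w5⟩ := h.wc ok w1
  obtain rfl : x = w := Nat.xor_eq_zero_iff.1 (Wc.eq_zero k q h.one (Nat.xor_lt_two_pow (n := 6) x1 w3)
    (by rw [Nat.and_xor_distrib_right, x2, w4]; rfl) (Wc.mul q x1 x2 w3 w4 ⟨_, cj r r1, x3⟩ w5) (h.me ok w2))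
  refine ⟨ei x, ?_, q.lin_unique (q.lin_mul hd r2) (by simpa using q.lin_mul x3 hd) (mm_lt _ _) (mm_lt _ _)⟩
  obtain ⟨-, -, o3, o4, o5, o6, -⟩ := ok
  simp only [List.mem_cons, List.not_mem_nil, or_false] at w1 ⊢
  rcases w1 with rfl | rfl | rfl | rfl
  exacts [Or.inl rfl, Or.inr (Or.inl rfl), Or.inr (Or.inr (Or.inl ((ei_chk a o3 o5).2.2.2 b o4 o6).symm)),
    Or.inr (Or.inr (Or.inr (by decide)))]

theorem not_bad (h : C2 z t c ψ 2 4 a b) (ok : Ok 2 4 a b) {ws : List (List ℕ)} {I : ℕ}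
    (hd : Lin z ψ d N) (e : mm N I = i6) : ¬ bad (ei a) (ei b) ws N I = true := by
  simp only [bad, anyL_iff, force_eq, not'_eq_true, not_exists, not_and, not_not]
  obtain ⟨r, -, r2⟩ := h.w1
  obtain ⟨s, -, s2⟩ := h.w2
  exact fun w _ => h.st_true ok (lin_four h.qc r2 s2 hd (lin_inv h.qc hd e) w)

theorem change (ok : Ok e f a b) {P e' f' a' b' : ℕ} (hP : frB P = true) (p0 : col P 0 = 1)
    (p3 : col P 3 = 8) (l1 : e' < 128) (l2 : f' < 128) (p1 : lin P e' ∈ [e, f, e ^^^ f, 0])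
    (p2 : lin P f' ∈ [e, f, e ^^^ f, 0]) (p4 : ∃ w ∈ [a, b, a ^^^ b, 0], mm (ei w) P = mm P (ei a'))
    (p5 : ∃ w ∈ [a, b, a ^^^ b, 0], mm (ei w) P = mm P (ei b')) : ∃ φ, C2 z t c φ e' f' a' b' ∧
      ∀ c M M', Lin z ψ c M → mm M P = mm P M' → Lin z φ c M' := by
  obtain ⟨φ, q, k1, k2⟩ := change' h.qc hP
  have k3 : ∀ k < 128, Eqv z (φ k) (ψ (lin P k)) := fun k hk => by
    rw [q.mul.eq_fq hk, q.z_eq]
    exact h.qc.eqv_lin (fun i hi => Or.inl (k1 i hi)) k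
  have k4 : ∀ {a'}, (∃ w ∈ [a, b, a ^^^ b, 0], mm (ei w) P = mm P (ei a')) → Wc z t φ a' :=
    fun ⟨w, w1, w2⟩ => by
      obtain ⟨-, -, r, r1, r2⟩ := h.wc ok w1
      exact ⟨r, r1, k2 _ _ _ r2 w2⟩
  exact ⟨φ, ⟨h.fp, q, (k1 0 (by decide)).trans (p0 ▸ h.one), (k3 _ l1).mem h.fp.z_mem (h.me ok p1),
    (k3 _ l2).mem h.fp.z_mem (h.me ok p2), k4 p4, k4 p5, h.hc,
    (k1 3 (by decide)).trans (congrArg ψ p3) ▸ h.c8⟩, k2⟩

theorem col0 (hc : Lin z ψ c M) : col M 0 = 8 :=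
  col_eq_of h.qc hc (by decide) (by decide) (by rw [pow_zero, h.one]; exact h.c8)

end C2

theorem C2.not_RL (h : C2 z t c ψ 2 4 16 36 ∨ C2 z t c ψ 2 4 18 38) : False := by
  rcases h with h | h <;> obtain ⟨M, -, a2, a3⟩ := h.qc.exists_lin h.fp.lx pass3 h.hc <;>
    simp only [or'_eq_true, not'_eq_true, beq_iff, h.col0 a2, not_true, false_or, force_eq,
      and'_eq_true] at a3
  exacts [h.not_bad h (by decide +kernel) a2 a3.1 a3.2.1, h.not_bad h (by decide +kernel) a2 a3.1 a3.2.2.1]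

theorem C2.not_H (h : C2 z t c ψ 2 4 16 34) (hi : Irr z) : False := by
  have q := h.qc
  have key : ∀ d, d * z = z * d → ∃ N, Lin z ψ d N ∧ (col N 0 = 8 → lin N 52 = 52 ∧ lin N 53 ≠ 53) ∧
      (mq (lin N 52) 52 ≠ mq 52 (lin N 52) → lin N 53 = 53) := fun d hd => by
    obtain ⟨N, -, a2, a3⟩ := q.exists_lin h.fp.lx passH hd
    simp only [or'_eq_true, not'_eq_true, beq_iff, force_eq, and'_eq_true, cmB, ite'_eq] at a3
    refine ⟨N, a2, fun e => ?_, fun e => ?_⟩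
    · have := a3.resolve_left fun k => k.2 e
      simpa [e] using this.2.resolve_left (h.not_bad h (by decide +kernel) a2 this.1)
    · have := a3.resolve_left fun k => e k.1
      have := this.2.resolve_left (h.not_bad h (by decide +kernel) a2 this.1)
      split_ifs at this with k
      · simp only [and'_eq_true, beq_iff] at this
        exact absurd (by rw [this.1]) e
      · exact (beq_iff _ _).1 this
  have m := qc_mem q (show 52 < 128 by decide)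
  obtain ⟨d, hd, n⟩ := hi (ψ 52) m fun e =>
    absurd (q.eq_of_eqv (a := 52) (b := 0) (by decide) (by decide) (q.mul.zero ▸ e)) (by decide)
  have k2 : ∀ g, g * z = z * g → Eqv z (g * ψ 52 * g⁻¹) (d * ψ 52 * d⁻¹) →
      Eqv z (g * ψ 53 * g⁻¹) (ψ 53) := fun g hg e => by
    obtain ⟨N, a1, -, a3⟩ := key g hg
    have := q.lin_all a1 (by decide : 53 < 128)
    rwa [a3 (mt (qc_comm q ((lin_lt _ _).trans (by decide)) (by decide)).2 fun c => n (comm_of_eqv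
      (h.fp.xs.z_comm _ m).symm ((e.symm q.zz).trans q.zz (q.lin_all a1 (by decide))) c))] at this
  obtain ⟨M, a1, a2, -⟩ := key c h.hc
  have a3 := a2 (h.col0 a1)
  have a5 := (q.lin_all a1 (by decide : 52 < 128)).conj hd
  rw [a3.1] at a5
  have a4 := (k2 _ (comm_mul_left hd h.hc) (by simpa [mul_assoc] using a5)).trans q.zz
      ((k2 d hd (Eqv.refl _ _)).symm q.zz)
  exact a3.2 (lin_eq q a1 (by decide) (by decide)
    (by simpa [mul_assoc] using a4.conj (comm_inv_left hd)))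

/-- `C(z) / Q` contains `L₃(2) . 2` in standard position -/
structure TS (z : G) (ψ : ℕ → G) : Prop where
  xh : XH z
  qc : QC (O2C z) z ψ
  w1 : ∃ r, Lin z ψ r (ei 16)
  w2 : ∃ r, Lin z ψ r (ei 32)
  w3 : ∃ r, Lin z ψ r sg
  st : ∀ d N, Lin z ψ d N → N < 2 ^ 36 → st 2 4 (ei 16) (ei 32) N = true

theorem C2.ts (h : C2 z t c ψ 2 4 16 32) : ∃ ψ, TS z ψ := by
  obtain ⟨M, -, a2, a3⟩ := h.qc.exists_lin h.fp.lx pass3 h.hc
  simp only [or'_eq_true, not'_eq_true, beq_iff, h.col0 a2, not_true, false_or, force_eq,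
    and'_eq_true, anyL_iff] at a3
  obtain ⟨w, -, k⟩ := a3.2.2.2.resolve_left (h.not_bad h (by decide +kernel) a2 a3.1)
  obtain ⟨r, r1, r2⟩ := h.w1
  obtain ⟨s, s1, s2⟩ := h.w2
  have l := lin_four h.qc r2 s2 a2 (lin_inv h.qc a2 a3.1) w
  rcases k with k | k
  · exact ⟨ψ, h.fp.xh, h.qc, ⟨r, r2⟩, ⟨s, s2⟩, ⟨_, k ▸ l⟩, fun d N hd _ => h.st_true (by decide +kernel) hd⟩
  · obtain ⟨φ, h', t⟩ := h.change (P := 34630355073) (e' := 34) (f' := 20) (a' := 16) (b' := 32)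
      (by decide +kernel) (by decide +kernel) (by decide +kernel) (by decide +kernel) (by decide)
      (by decide) (by decide +kernel) (by decide +kernel) (by decide +kernel) (by decide +kernel)
    refine ⟨φ, h.fp.xh, h'.qc, h'.w1.imp fun _ => And.right, h'.w2.imp fun _ => And.right,
      ⟨_, t _ 22045532424 _ (k ▸ l) (by decide +kernel)⟩, fun d N hd hN => ?_⟩
    obtain ⟨N', b1, b2, b3⟩ := h'.qc.exists_lin h.fp.lx pass01 hd.1
    obtain rfl := h'.qc.lin_unique hd b2 hN b1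
    simp only [or'_eq_true, not'_eq_true] at b3
    exact b3.resolve_right (not_not.2 (h'.st_true (by decide +kernel) hd))

theorem FP.ts (h : FP z t) (hi : Irr z) (h16 : 16 ≤ Nat.card (O2C z ⊓ O2C t : Subgroup G)) :
    ∃ ψ, TS z ψ := by
  obtain ⟨c, hc, n⟩ := hi t h.mem h.not_eqv
  have h' := h.cj hc
  obtain ⟨ψ, q, one, e8, hF⟩ := Big.frame (F := O2C z ⊓ O2C t) ⟨inf_le_left, ⟨h.xs.z_mem, h.z_mem⟩,
    fun x hx => h.E_sq hx.1 hx.2, h16⟩ h.xs h.xh.card ⟨h.mem, h.ht.xs.z_mem⟩ h'.mem h'.tt n.symm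
  obtain ⟨f1, a1, a2⟩ := exists_Wc h q one hF (Or.inl rfl)
  obtain ⟨f2, b1, b2⟩ := exists_Wc h q one hF (Or.inr rfl)
  have k : C2 z t c ψ 2 4 (16 ^^^ f1) (32 ^^^ f2) := ⟨h, q, one, ((hF 2 (by decide)).2 (by decide)).2,
    ((hF 4 (by decide)).2 (by decide)).2, a2, b2, hc, e8.symm q.zz⟩
  have t1 : ∀ f1 ∈ [0, 2, 4, 6], ∀ f2 ∈ [0, 2, 4, 6], Ok 2 4 (16 ^^^ f1) (32 ^^^ f2) := by decide +kernel
  have t2 : ∀ f1 ∈ [0, 2, 4, 6], ∀ f2 ∈ [0, 2, 4, 6], ∃ P ∈ [34630287489, 22382928129, 17718845697,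
      35167166593, 37415313537, 36844880001, 17987297537, 22047367425], (frB P = true ∧ col P 0 = 1 ∧
      col P 3 = 8 ∧ lin P 2 ∈ [2, 4, 2 ^^^ 4, 0] ∧ lin P 4 ∈ [2, 4, 2 ^^^ 4, 0]) ∧
      ∃ p ∈ [(16, 32), (16, 34), (16, 36), (18, 38)],
        (∃ w ∈ [16 ^^^ f1, 32 ^^^ f2, 16 ^^^ f1 ^^^ (32 ^^^ f2), 0], mm (ei w) P = mm P (ei p.1)) ∧
        ∃ w ∈ [16 ^^^ f1, 32 ^^^ f2, 16 ^^^ f1 ^^^ (32 ^^^ f2), 0], mm (ei w) P = mm P (ei p.2) := by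
    decide +kernel
  obtain ⟨P, -, ⟨p1, p2, p3, p4, p5⟩, p, hp, p6, p7⟩ := t2 f1 a1 f2 b1
  obtain ⟨φ, k', -⟩ := k.change (t1 f1 a1 f2 b1) p1 p2 p3 (by decide) (by decide) p4 p5 p6 p7
  simp only [List.mem_cons, List.not_mem_nil, or_false] at hp
  rcases hp with rfl | rfl | rfl | rfl
  exacts [k'.ts, (k'.not_H hi).elim, (C2.not_RL (Or.inl k')).elim, (C2.not_RL (Or.inr k')).elim]

end Cfsg.Agent.X7
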