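import Cfsg.Agent.X7.Zero

/-! The case `|Q ∩ P| = 16`: finite checks in `O₆⁺(2)`. -/

set_option autoImplicit false

namespace Cfsg.Agent.X7

open Cfsg.Agent.He5 Cfsg.Agent.Comp

def bt (M i : ℕ) : ℕ := Nat.land (Nat.shiftRight M i) 1

/-- the Eichler map with centre `1` and vector `a` -/
def ei (a : ℕ) : ℕ := pk 1 (Nat.add 2 (bt a 4)) (Nat.add 4 (bt a 5))
  (Nat.add (Nat.add 8 a) (bt (mq a a) 6)) (Nat.add 16 (bt a 1)) (Nat.add 32 (bt a 2))

def p2 (a b : ℕ) : ℕ := Nat.add a (Nat.mul 2 b)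

noncomputable def rw6 (M r : ℕ) : ℕ := force (Nat.shiftRight M r) fun x =>
  p2 (bt x 18) (p2 (bt x 24) (p2 (bt x 30) (p2 (bt x 0) (p2 (bt x 6) (bt x 12)))))

/-- the inverse of an isometry -/
noncomputable def iv (M : ℕ) : ℕ := pk (rw6 M 3) (rw6 M 4) (rw6 M 5) (rw6 M 0) (rw6 M 1) (rw6 M 2)

def cmB (a b : ℕ) : Bool := Nat.beq (mq a b) (mq b a)

/-- `N` does not fix `1`, or it respects the data at `1` -/
noncomputable def st (e f A B N : ℕ) : Bool := or' (not' (Nat.beq (col N 0) 1))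
  (and' (force (lin N e) fun u => and' (cmB u e) (cmB u f))
    (and' (force (lin N f) fun u => and' (cmB u e) (cmB u f))
      (allL [A, B] fun X => force (mm N X) fun Y => anyL [A, B, mm A B, i6] fun Z => Nat.beq Y (mm Z N))))

noncomputable def bad (A B : ℕ) (ws : List (List ℕ)) (M I : ℕ) : Bool :=
  anyL ws fun w => force (evM [A, B, M, I] w) fun N => not' (st 2 4 A B N)

def wR : List (List ℕ) := [[3, 3, 1, 2, 2], [3, 3, 0, 2, 2], [2, 2], [2, 1, 3, 1, 2], [3, 3, 1, 0, 2, 2], [3, 3, 1, 2], [2,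
  1, 2], [2, 1, 0, 3, 1, 2], [2, 2, 1, 0, 3], [2, 1, 0, 2], [2, 2, 2], [2, 1, 3, 1, 0, 2], [2, 2, 1,
  3], [2, 2, 2, 2, 2], [3, 3, 1, 0, 2], [3, 0, 2, 2, 0, 3], [2, 2, 2, 2, 2, 2], [2, 1, 2, 1, 2, 1,
  2, 1, 2], [3, 0, 3, 1, 2, 0, 2], [2, 0, 2], [3, 0, 2, 1, 2, 1, 2, 1, 2, 0, 2], [3, 1, 3, 1, 0, 2],
  [2, 2, 1, 2], [2, 0, 2, 0, 2], [2, 1, 3, 1, 3, 1, 2, 1, 2]]
def wL : List (List ℕ) := [[2, 0, 3, 0, 2], [2, 1, 3, 0, 2], [3, 3, 1, 2, 2], [3, 3, 0, 2, 2], [2, 1, 3, 1, 2], [2, 0, 3, 1,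
  2], [2, 2, 1, 3], [2, 2], [2, 2, 0, 3], [3, 3, 1, 0, 2, 2], [2, 2, 1, 0, 3], [2, 1, 2], [2, 0, 2],
  [2, 1, 0, 2], [2, 2, 0, 3, 3, 0, 2, 2], [2, 2, 0, 3, 3], [2, 2, 2, 2], [3, 0, 2, 1, 3, 0, 2, 1, 3,
  0, 2], [2, 1, 0, 3, 1, 2], [2, 1, 0, 3, 0, 2], [2, 1, 3, 0, 3], [2, 2, 2, 0, 3, 3, 3], [2, 2, 2,
  1, 3, 3, 3], [2, 2, 2, 1, 0, 3, 3, 3], [3, 1, 3, 0, 2], [3, 1, 0, 2, 1, 0, 2], [3, 3, 1, 2, 2, 0,
  3, 3], [3, 0, 2, 0, 3, 0, 2, 0, 3, 0, 2]]
def wH : List (List ℕ) := [[2, 0, 3], [3, 1, 2], [2, 2, 0, 3, 3], [3, 1, 2, 0, 3, 1, 2], [2, 1, 3], [2], [3, 0, 2], [2, 2],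
  [3, 3, 1, 2, 2], [2, 2, 2, 2, 2], [2, 2, 2], [3, 0, 2, 0, 3, 0, 2], [2, 0, 2, 2], [2, 0, 2], [2,
  1, 0, 2], [2, 1, 2], [2, 2, 0, 2], [2, 1, 2, 1, 2], [2, 0, 2, 0, 2], [2, 1, 2, 1, 0, 2], [3, 1, 2,
  1, 3, 1, 2], [3, 3, 0, 2, 2], [2, 1, 0, 2, 1, 0, 2], [2, 2, 1, 3, 1, 2, 2], [2, 2, 0, 3, 0, 2, 2],
  [2, 1, 2, 0, 2], [3, 1, 2, 2, 2, 1, 3], [2, 0, 2, 2, 2, 0, 2], [3, 0, 2, 1, 3, 0, 2], [2, 0, 2, 1,
  2, 1, 2, 0, 2], [2, 1, 2, 0, 2, 0, 2, 1, 2]]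
def wT : List (List ℕ) := [[3, 3, 1, 2, 2], [2, 2, 2, 2, 2], [2, 2], [3, 0, 2, 0, 3, 0, 2], [2, 2, 2], [2, 2, 0, 3, 3], [2,
  0, 2], [2, 2, 2, 2], [2, 1, 2], [3, 1, 2, 2, 1, 3], [2, 2, 0, 2], [2, 1, 0, 2], [2, 0, 2, 2], [2,
  2, 1, 2, 2], [2, 2, 1, 3, 3], [3, 1, 2, 2, 1, 2], [2, 1, 2, 1, 2], [2, 1, 0, 2, 2], [2, 2, 1, 2],
  [2, 1, 2, 2], [2, 2, 1, 0, 2], [3, 0, 3, 1, 2, 0, 2], [2, 2, 0, 3, 0, 2, 2], [3, 0, 2, 2, 0, 2],
  [2, 0, 2, 1, 2], [3, 1, 2, 1, 3, 1, 2], [2, 1, 0, 2, 1, 2], [2, 0, 2, 1, 0, 2], [2, 0, 2, 2, 0,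
  2], [2, 1, 3, 0, 2, 1, 3], [2, 0, 3, 0, 2, 0, 3], [2, 1, 0, 2, 0, 2], [2, 1, 2, 0, 2], [2, 0, 3,
  3, 0, 2], [2, 2, 2, 2, 2, 2], [3, 1, 0, 2, 1, 2, 1, 0, 2], [2, 1, 2, 1, 0, 2], [2, 0, 2, 2, 1, 2],
  [2, 1, 2, 2, 1, 2]]
def wS : List (List ℕ) := [[2], [1, 3, 0, 2, 1, 3, 0], [1, 0, 2, 1, 0, 2, 1, 0, 2, 1, 0], [0, 2, 1, 2, 1, 2, 0, 2, 0, 2, 1,
  0], [1, 2, 0, 3, 1, 2, 0], [1, 2, 0, 2, 0, 2, 1, 2, 1, 2, 1, 0], [2, 0], [3, 0, 3, 1, 3, 1, 0],
  [0, 3, 0, 3, 0, 3, 1, 0], [3, 3, 0, 3, 0, 3, 0, 2], [3, 1, 2, 0, 3, 1], [3, 3, 1, 3, 0, 2, 2], [2,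
  1], [3, 0, 2, 1, 3, 0], [1, 3, 1, 3, 1, 3, 1, 0], [3, 3, 1, 2, 0, 2, 2], [3, 1, 3, 0, 3, 1, 0],
  [3, 3, 1, 3, 1, 3, 1, 2], [2, 1, 0], [3, 1, 0, 2, 2, 1, 0], [3, 3, 3, 1, 0], [3, 1, 2, 1, 2, 2, 2,
  1, 0], [3, 0, 2, 0, 2, 2, 2, 1, 0]]

/-- the polarity -/
def sg : ℕ := 4328915976

theorem passE : allO (fun M => or' (not' (and' (Nat.beq (col M 0) 1) (allL [1, 2, 4, 5] fun i =>
    Nat.beq (Nat.lor (col M i) 1) (Nat.lor (Nat.pow 2 i) 1)))) (Nat.beq M (ei (Nat.land (col M 3) 54)))) =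
    true := by decide +kernel

theorem pass3 : allO (fun M => or' (not' (Nat.beq (col M 0) 8)) (force (iv M) fun I =>
    and' (Nat.beq (mm M I) i6) (and' (bad 34634481857 35713732737 wR M I)
      (and' (bad 34652045505 35731034241 wL M I) (or' (bad 34634481857 34638680193 wT M I)
        (anyL wS fun w => force (evM [34634481857, 34638680193, M, I] w) fun N =>
          or' (Nat.beq N sg) (Nat.beq N 22045532424))))))) = true := by decide +kernel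

theorem passH : allO (fun M => force (lin M 52) fun u => or' (and' (cmB u 52) (not' (Nat.beq (col M 0) 8)))
    (force (iv M) fun I => and' (Nat.beq (mm M I) i6) (or' (bad 34634481857 34655981697 wH M I)
      (ite' (Nat.beq (col M 0) 8) (and' (Nat.beq u 52) (not' (Nat.beq (lin M 53) 53)))
        (Nat.beq (lin M 53) 53))))) = true := by decide +kernel

theorem pass01 : allO (fun M => or' (st 2 4 34634481857 34638680193 M)
    (not' (st 34 20 34634481857 34638680193 M))) = true := by decide +kernel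

def gT : List ℕ := [34630287489, 34630287489, 34500264130, 34764505219, 8868876420, 43220222085, 60270067910,
  43354439815, 4328915976, 34630287489, 34630287489, 34630287489, 34630287489, 34630287489,
  34630287489, 34630287489, 4312663568, 34630287489, 34630287489, 34630287489, 34630287489,
  34630287489, 34630287489, 34630287489, 4345693208, 34630287489, 34630287489, 34630287489,
  34630287489, 34630287489, 34630287489, 34630287489, 1108771872, 34630287489, 34630287489,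
  34630287489, 34630287489, 34630287489, 34630287489, 34630287489, 5402657832, 34630287489,
  34630287489, 34630287489, 34630287489, 34630287489, 34630287489, 34630287489, 7533889072,
  34630287489, 34630287489, 34630287489, 34630287489, 34630287489, 34630287489, 34630287489,
  5419435064]
def hT : List ℕ := [34630287489, 34630287489, 34766602307, 34764505219, 43226501253, 43220222085, 43356537159,
  43354439815, 4328915976, 34630287489, 34630287489, 34630287489, 34630287489, 34630287489,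
  34630287489, 34630287489, 4312663568, 34630287489, 34630287489, 34630287489, 34630287489,
  34630287489, 34630287489, 34630287489, 4329440776, 34630287489, 34630287489, 34630287489,
  34630287489, 34630287489, 34630287489, 34630287489, 1108771872, 34630287489, 34630287489,
  34630287489, 34630287489, 34630287489, 34630287489, 34630287489, 4329997320, 34630287489,
  34630287489, 34630287489, 34630287489, 34630287489, 34630287489, 34630287489, 4380853776,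
  34630287489, 34630287489, 34630287489, 34630287489, 34630287489, 34630287489, 34630287489,
  4330522120]
def gW : List (List ℕ) := [[], [], [0, 2, 0, 2], [2, 0, 2], [1, 2, 1, 2], [2, 1, 2], [0, 2, 1, 0, 2], [2, 1, 0, 2], [2], [],
  [], [], [], [], [], [], [2, 0, 2, 0, 2], [], [], [], [], [], [], [], [0, 2], [], [], [], [], [],
  [], [], [2, 1, 2, 1, 2], [], [], [], [], [], [], [], [1, 2], [], [], [], [], [], [], [], [2, 0, 2,
  1, 0, 2], [], [], [], [], [], [], [], [1, 0, 2]]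

theorem gT_chk : allLT 57 (fun k => and' (Nat.beq (evM [34634481857, 34638680193, sg] (BN.nth [] gW k))
    (BN.nth i6 gT k)) (Nat.beq (mm (BN.nth i6 gT k) (BN.nth i6 hT k)) i6)) = true := by decide +kernel

def c12 : List ℕ := [1108378656, 1141409808, 2165375520, 2214922248, 4312400400, 4328915976,
  8866762884, 9131004162, 17322483780, 17718845697, 34498166850, 34630287489]

noncomputable def t0 (N : ℕ) : Bool := allLT 8 fun k => Nat.blt (lin N k) 8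

noncomputable def good (N : ℕ) : Bool := and' (or' (t0 N) (force (mm N sg) t0))
  (and' (or' (not' (Nat.beq (mm N sg) (mm sg N))) (anyL c12 (Nat.beq N)))
    (allL [(27, 34498166850), (45, 8866762884), (54, 17718845697)] fun p => or' (Nat.beq N i6)
      (or' (Nat.beq N p.2) (anyLT 64 fun s => and' (cmB s p.1) (force (Nat.xor (lin N s) s) fun u =>
        not' (or' (Nat.beq u 0) (Nat.beq u p.1)))))))

theorem passP : allO (fun N => or' (anyL [1, 2, 3, 4, 5, 6, 7, 8, 16, 24, 32, 40, 48, 56] fun j =>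
    force (lin N j) fun s => and' (or' (Nat.blt s 8) (Nat.beq (Nat.land s 7) 0))
      (force (mm (BN.nth i6 hT s) (mm N (BN.nth i6 gT j))) fun M =>
        not' (st 2 4 34634481857 34638680193 M))) (good N)) = true := by decide +kernel

end Cfsg.Agent.X7
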